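import Mathlib
import Groth.Agent.CatLib.Ratliff

/-!
# The dimension inequality for finite type extensions of Noetherian domains (EGA IV 5.5.8)
-/

set_option autoImplicit false
universe u

open Cardinal
open scoped Polynomial

noncomputable section

namespace DimIneqLib

/-- the transcendence degree in `ℕ∞` -/
def tr (R S : Type u) [CommRing R] [CommRing S] [Algebra R S] : ℕ∞ := toENat (Algebra.trdeg R S)

theorem tr_add {R S T : Type u} [CommRing R] [Nontrivial R] [CommRing S] [CommRing T] [NoZeroDivisors T]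
    [Algebra R S] [Algebra S T] [Algebra R T] [IsScalarTower R S T] [FaithfulSMul R S] [FaithfulSMul S T] :
    tr R S + tr S T = tr R T := by
  rw [tr, tr, tr, ← map_add, trdeg_add_eq]

theorem tr_eq_zero {R S : Type u} [CommRing R] [CommRing S] [Algebra R S] [Algebra.IsAlgebraic R S] :
    tr R S = 0 := by
  rw [tr, trdeg_eq_zero, map_zero]

theorem height_add_one_le {R T : Type u} [CommRing R] [IsDomain R] [CommRing T] [IsNoetherianRing T] (φ : R →+* T)
    (hφ : Function.Surjective φ) (h0 : RingHom.ker φ ≠ ⊥) (q : Ideal T) [q.IsPrime] :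
    q.height + 1 ≤ (q.comap φ).height := by
  obtain ⟨n, hn⟩ := ENat.ne_top_iff_exists.mp (Ideal.height_ne_top (I := q) Ideal.IsPrime.ne_top')
  rw [← hn, show (q.comap φ).height = Order.height (PrimeSpectrum.comap φ ⟨q, inferInstance⟩) from
    PrimeSpectrum.height_eq_orderHeight (PrimeSpectrum.comap φ ⟨q, inferInstance⟩)]
  have hn' : (n : ℕ∞) ≤ Order.height (⟨q, inferInstance⟩ : PrimeSpectrum T) := by
    rw [hn, ← PrimeSpectrum.height_eq_orderHeight]
  obtain ⟨l, hl, hlen⟩ := Order.exists_series_of_le_height _ hn'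
  let l' := l.map (PrimeSpectrum.comap φ) (RingHom.strictMono_comap_of_surjective hφ)
  have hbot : (⟨⊥, Ideal.isPrime_bot⟩ : PrimeSpectrum R) < l'.head := by
    show (⊥ : Ideal R) < l.head.asIdeal.comap φ
    exact bot_lt_iff_ne_bot.mpr fun h => h0 (le_bot_iff.mp (h ▸ Ideal.comap_mono bot_le))
  have hlast : (l'.cons _ hbot).last ≤ PrimeSpectrum.comap φ ⟨q, inferInstance⟩ := by
    rw [RelSeries.last_cons]
    exact le_of_eq (congrArg (PrimeSpectrum.comap φ) hl)
  have := Order.length_le_height hlast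
  simp [l', hlen] at this
  exact this

theorem height_le_of_lies_over {R : Type u} [CommRing R] [IsNoetherianRing R] (p : Ideal R) [p.IsPrime]
    (Q : Ideal R[X]) [Q.IsPrime] [Q.LiesOver p] :
    Q.height ≤ p.height + 1 ∧ (Q = p.map Polynomial.C → Q.height ≤ p.height) := by
  have hle := Ideal.height_le_height_add_of_liesOver p Q
  let e : R[X] ⧸ p.map (algebraMap R R[X]) ≃+* (R ⧸ p)[X] := (Ideal.polynomialQuotientEquivQuotientPolynomial p).symm
  have hker : RingHom.ker (Ideal.Quotient.mk (p.map (algebraMap R R[X]))) ≤ Q := by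
    rw [Ideal.mk_ker, Q.over_def p]
    exact Ideal.map_comap_le
  haveI : (Q.map (Ideal.Quotient.mk (p.map (algebraMap R R[X])))).IsPrime :=
    Ideal.map_isPrime_of_surjective Ideal.Quotient.mk_surjective hker
  let Q' : Ideal (R ⧸ p)[X] := (Q.map (Ideal.Quotient.mk (p.map (algebraMap R R[X])))).comap e.symm
  have hQ' : Q'.height = (Q.map (Ideal.Quotient.mk (p.map (algebraMap R R[X])))).height := e.symm.height_comap _
  refine ⟨hle.trans (add_le_add le_rfl (hQ' ▸ CatLib.height_le_one_of_comap_C_eq_bot Q' fun r hr => ?_)), fun h => ?_⟩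
  · obtain ⟨r, rfl⟩ := Ideal.Quotient.mk_surjective r
    have h1 : e (Ideal.Quotient.mk _ (Polynomial.C r)) = Polynomial.C (Ideal.Quotient.mk p r) := by
      simp [e]
    rw [Ideal.mem_comap, ← h1, e.symm_apply_apply, Ideal.mem_quotient_iff_mem_sup,
      sup_eq_left.mpr (Ideal.mk_ker (I := p.map (algebraMap R R[X])) ▸ hker)] at hr
    rw [Ideal.Quotient.eq_zero_iff_mem, Q.over_def p]
    exact hr
  · haveI : Nontrivial (R[X] ⧸ p.map (algebraMap R R[X])) := Ideal.Quotient.nontrivial_iff.mpr fun ht =>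
      Ideal.IsPrime.ne_top' (top_le_iff.mp (ht ▸ (Ideal.mk_ker (I := p.map (algebraMap R R[X])) ▸ hker) : (⊤ : Ideal R[X]) ≤ Q))
    refine hle.trans ?_
    rw [h, show (p.map Polynomial.C).map (Ideal.Quotient.mk (p.map (algebraMap R R[X]))) = ⊥ from
      Ideal.map_quotient_self _, Ideal.height_bot, add_zero]

section

variable {R T : Type u} [CommRing R] [IsDomain R] [IsNoetherianRing R] [CommRing T] [IsDomain T] [Algebra R T]
  [FaithfulSMul R T]

omit [IsDomain R] [IsNoetherianRing R] [IsDomain T] [FaithfulSMul R T] in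
theorem isAlgebraic_of_root [IsDomain R] [IsDomain T] [FaithfulSMul R T] (x : T) (hs : Algebra.adjoin R {x} = ⊤)
    {f : R[X]} (hf : f ≠ 0) (hfx : Polynomial.aeval x f = 0) : Algebra.IsAlgebraic R T := by
  have h := (Algebra.isAlgebraic_adjoin_singleton_iff (R := R) (s := x)).mpr ⟨f, hf, hfx⟩
  rw [hs] at h
  exact ⟨fun t => h t trivial⟩

/-- the inequality for a simple extension -/
theorem simple (x : T) (hx : Algebra.adjoin R {x} = ⊤) (q : Ideal T) [q.IsPrime] (p : Ideal R) [p.IsPrime]
    [q.LiesOver p] : q.height + tr (R ⧸ p) (T ⧸ q) ≤ p.height + tr R T := by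
  have hs : Function.Surjective (Polynomial.aeval (R := R) x) := by
    rw [← AlgHom.range_eq_top, ← Algebra.adjoin_singleton_eq_range_aeval, hx]
  let φ : R[X] →+* T := (Polynomial.aeval (R := R) x).toRingHom
  haveI : IsNoetherianRing T := isNoetherianRing_of_surjective R[X] T φ hs
  let Q : Ideal R[X] := q.comap φ
  haveI : Q.LiesOver p := ⟨by
    rw [q.over_def p]
    show _ = (q.comap φ).comap (algebraMap R R[X])
    rw [Ideal.comap_comap]
    exact congrArg (fun g => q.comap g) (RingHom.ext fun b => by simp [φ])⟩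
  obtain ⟨hQ1, hQ2⟩ := height_le_of_lies_over p Q
  have hx' : Algebra.adjoin (R ⧸ p) {Ideal.Quotient.mk q x} = ⊤ := by
    refine top_le_iff.mp fun t _ => ?_
    obtain ⟨t, rfl⟩ := Ideal.Quotient.mk_surjective t
    obtain ⟨g, rfl⟩ := hs t
    induction g using Polynomial.induction_on' with
    | add a b ha hb => rw [map_add, map_add]; exact add_mem (ha trivial) (hb trivial)
    | monomial n a =>
      rw [Polynomial.aeval_monomial, map_mul, map_pow]
      refine Subalgebra.mul_mem _ ?_ (Subalgebra.pow_mem _ (Algebra.subset_adjoin (Set.mem_singleton _)) n)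
      rw [show Ideal.Quotient.mk q (algebraMap R T a) = algebraMap (R ⧸ p) (T ⧸ q) (Ideal.Quotient.mk p a) from (Ideal.Quotient.algebraMap_mk_of_liesOver q p a).symm]
      exact Subalgebra.algebraMap_mem _ _
  have ht2 : tr (R ⧸ p) (T ⧸ q) ≤ 1 := by
    rw [tr, toENat_le_one]
    have : Algebra.IsAlgebraic (Algebra.adjoin (R ⧸ p) ({Ideal.Quotient.mk q x} : Set (T ⧸ q))) (T ⧸ q) :=
      ⟨fun t => isAlgebraic_algebraMap (⟨t, hx'.ge trivial⟩ : Algebra.adjoin (R ⧸ p) _)⟩
    simpa using Algebra.IsAlgebraic.trdeg_le_cardinalMk (R := R ⧸ p) (A := T ⧸ q) ({Ideal.Quotient.mk q x} : Set (T ⧸ q))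
  have ht2' : Q ≠ p.map Polynomial.C → tr (R ⧸ p) (T ⧸ q) = 0 := fun hne => by
    have hle : p.map Polynomial.C ≤ Q := by
      rw [Ideal.map_le_iff_le_comap]; exact le_of_eq (Q.over_def p)
    obtain ⟨f, hfQ, hfp⟩ := SetLike.exists_of_lt (hle.lt_of_ne (Ne.symm hne))
    haveI : Algebra.IsAlgebraic (R ⧸ p) (T ⧸ q) := by
      refine isAlgebraic_of_root (Ideal.Quotient.mk q x) hx' (f := f.map (Ideal.Quotient.mk p)) ?_ ?_
      · intro h0
        refine hfp (Ideal.mem_map_C_iff.mpr fun n => ?_)
        rw [← Ideal.Quotient.eq_zero_iff_mem, ← Polynomial.coeff_map, h0, Polynomial.coeff_zero]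
      · rw [Polynomial.aeval_def, Polynomial.eval₂_map,
          show (algebraMap (R ⧸ p) (T ⧸ q)).comp (Ideal.Quotient.mk p) = (Ideal.Quotient.mk q).comp (algebraMap R T) from
            RingHom.ext fun _ => rfl, ← Polynomial.hom_eval₂]
        exact Ideal.Quotient.eq_zero_iff_mem.mpr hfQ
    exact tr_eq_zero
  by_cases hP : RingHom.ker φ = ⊥
  · have hinj : Function.Injective φ := (RingHom.injective_iff_ker_eq_bot φ).mpr hP
    have ht1 : (1 : ℕ∞) ≤ tr R T := by
      have hai : Transcendental R x := transcendental_iff_injective.mpr hinj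
      rw [tr, show (1 : ℕ∞) = toENat 1 from (map_one _).symm]
      refine OrderHomClass.mono _ ?_
      simpa using ((algebraicIndependent_unique_type_iff (x := fun _ : PUnit.{u + 1} => x)).mpr hai).cardinalMk_le_trdeg
    have hqQ : q.height = Q.height := by
      let e : R[X] ≃+* T := RingEquiv.ofBijective φ ⟨hinj, hs⟩
      exact (e.height_comap q).symm
    refine le_trans ?_ (add_le_add le_rfl ht1)
    by_cases hQ : Q = p.map Polynomial.C
    · rw [hqQ]; exact add_le_add (hQ2 hQ) ht2
    · rw [ht2' hQ, add_zero, hqQ]; exact hQ1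
  · have h1 : q.height + 1 ≤ Q.height := height_add_one_le φ hs hP q
    refine le_trans ?_ le_self_add
    by_cases hQ : Q = p.map Polynomial.C
    · exact (add_le_add le_rfl ht2).trans (h1.trans (hQ2 hQ))
    · rw [ht2' hQ, add_zero]
      exact (ENat.add_le_add_iff_right ENat.one_ne_top).mp (h1.trans hQ1)

end

theorem step {R R' T : Type u} [CommRing R] [IsDomain R] [CommRing R'] [IsDomain R'] [IsNoetherianRing R']
    [CommRing T] [IsDomain T] [Algebra R R'] [Algebra R' T] [Algebra R T] [IsScalarTower R R' T]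
    [FaithfulSMul R R'] [FaithfulSMul R' T] (x : T) (hx : Algebra.adjoin R' {x} = ⊤)
    (q : Ideal T) [q.IsPrime] (p : Ideal R) [p.IsPrime] (p' : Ideal R') [p'.IsPrime] [q.LiesOver p'] [p'.LiesOver p]
    [q.LiesOver p] (h1 : p'.height + tr (R ⧸ p) (R' ⧸ p') ≤ p.height + tr R R') :
    q.height + tr (R ⧸ p) (T ⧸ q) ≤ p.height + tr R T := by
  haveI : IsScalarTower (R ⧸ p) (R' ⧸ p') (T ⧸ q) := IsScalarTower.of_algebraMap_eq fun r => by
    obtain ⟨r, rfl⟩ := Ideal.Quotient.mk_surjective r
    exact congrArg (Ideal.Quotient.mk q) (IsScalarTower.algebraMap_apply R R' T r)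
  have h2 := simple x hx q p'
  rw [← tr_add (R := R ⧸ p) (S := R' ⧸ p') (T := T ⧸ q), ← tr_add (R := R) (S := R') (T := T)]
  calc q.height + (tr (R ⧸ p) (R' ⧸ p') + tr (R' ⧸ p') (T ⧸ q))
      = (q.height + tr (R' ⧸ p') (T ⧸ q)) + tr (R ⧸ p) (R' ⧸ p') := by ring
    _ ≤ (p'.height + tr R' T) + tr (R ⧸ p) (R' ⧸ p') := add_le_add h2 le_rfl
    _ = (p'.height + tr (R ⧸ p) (R' ⧸ p')) + tr R' T := by ring
    _ ≤ (p.height + tr R R') + tr R' T := add_le_add h1 le_rfl
    _ = p.height + (tr R R' + tr R' T) := by ring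

theorem main_aux {R : Type u} [CommRing R] [IsDomain R] [IsNoetherianRing R] (p : Ideal R) [p.IsPrime] (n : ℕ) :
    ∀ (T : Type u) [CommRing T] [IsDomain T] [Algebra R T] [FaithfulSMul R T] (f : Fin n → T),
      Algebra.adjoin R (Set.range f) = ⊤ → ∀ (q : Ideal T) [q.IsPrime] [q.LiesOver p],
        q.height + tr (R ⧸ p) (T ⧸ q) ≤ p.height + tr R T := by
  induction n with
  | zero =>
    intro T _ _ _ _ f hf q _ _
    have hsurj : Function.Surjective (algebraMap R T) := fun t => by
      rw [Set.range_eq_empty f, Algebra.adjoin_empty] at hf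
      exact Algebra.mem_bot.mp (hf.ge trivial)
    let e : R ≃+* T := RingEquiv.ofBijective _ ⟨FaithfulSMul.algebraMap_injective R T, hsurj⟩
    haveI : Algebra.IsAlgebraic (R ⧸ p) (T ⧸ q) := ⟨fun t => by
      obtain ⟨t, rfl⟩ := Ideal.Quotient.mk_surjective t
      obtain ⟨r, rfl⟩ := hsurj t
      exact isAlgebraic_algebraMap (Ideal.Quotient.mk p r)⟩
    rw [tr_eq_zero, add_zero]
    refine le_trans (le_of_eq ?_) le_self_add
    rw [show p = q.comap e from q.over_def p, e.height_comap]
  | succ n ih =>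
    intro T _ _ _ _ f hf q _ _
    let R' := Algebra.adjoin R (Set.range fun i : Fin n => f i.castSucc)
    haveI : IsNoetherianRing R' := Algebra.FiniteType.isNoetherianRing
      (h := Algebra.FiniteType.adjoin_of_finite (Set.finite_range _)) R R'
    let p' : Ideal R' := q.comap (algebraMap R' T)
    haveI : q.LiesOver p' := ⟨rfl⟩
    haveI : p'.LiesOver p := ⟨by
      rw [q.over_def p]
      show _ = (q.comap (algebraMap R' T)).comap (algebraMap R R')
      rw [Ideal.comap_comap]
      rfl⟩
    haveI : FaithfulSMul R R' := (faithfulSMul_iff_algebraMap_injective R R').mpr fun u v h =>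
      FaithfulSMul.algebraMap_injective R T (congrArg (fun w : R' => (w : T)) h)
    haveI : FaithfulSMul R' T := (faithfulSMul_iff_algebraMap_injective R' T).mpr Subtype.val_injective
    have hfun : Algebra.adjoin R (Set.range fun i : Fin n => (⟨f i.castSucc, Algebra.subset_adjoin ⟨i, rfl⟩⟩ : R')) = ⊤ := by
      refine Subalgebra.map_injective (f := R'.val) Subtype.val_injective ?_
      rw [AlgHom.map_adjoin, ← Set.range_comp, Algebra.map_top, Subalgebra.range_val]
      rfl
    have h1 := ih R' _ hfun p'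
    refine step (f (Fin.last n)) ?_ q p p' h1
    refine top_le_iff.mp fun t _ => ?_
    have ht : t ∈ Algebra.adjoin R (Set.range f) := hf.ge trivial
    have hle : Algebra.adjoin R (Set.range f) ≤ (Algebra.adjoin R' ({f (Fin.last n)} : Set T)).restrictScalars R := by
      refine Algebra.adjoin_le ?_
      rintro _ ⟨i, rfl⟩
      induction i using Fin.lastCases with
      | last => exact Algebra.subset_adjoin rfl
      | cast i => exact Subalgebra.algebraMap_mem _ (⟨f i.castSucc, Algebra.subset_adjoin ⟨i, rfl⟩⟩ : R')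
    exact hle ht

/-- the dimension inequality -/
theorem main {R T : Type u} [CommRing R] [IsDomain R] [IsNoetherianRing R] [CommRing T] [IsDomain T] [Algebra R T]
    [FaithfulSMul R T] [Algebra.FiniteType R T] (q : Ideal T) [q.IsPrime] (p : Ideal R) [p.IsPrime] [q.LiesOver p] :
    q.height + tr (R ⧸ p) (T ⧸ q) ≤ p.height + tr R T := by
  obtain ⟨n, φ, hφ⟩ := Algebra.FiniteType.iff_quotient_mvPolynomial''.mp (inferInstance : Algebra.FiniteType R T)
  refine main_aux p n T (fun i => φ (MvPolynomial.X i)) ?_ q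
  rw [show (fun i => φ (MvPolynomial.X i)) = φ ∘ MvPolynomial.X from rfl, Set.range_comp, ← AlgHom.map_adjoin,
    MvPolynomial.adjoin_range_X, Algebra.map_top, AlgHom.range_eq_top]
  exact hφ

theorem ofENat_tr {R T : Type u} [CommRing R] [IsDomain R] [CommRing T] [Algebra R T] [Algebra.FiniteType R T] :
    (tr R T : Cardinal.{u}) = Algebra.trdeg R T :=
  Cardinal.ofENat_toENat (trdeg_lt_aleph0_of_finiteType (R := R) (S := T)).le

end DimIneqLib
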