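import Mathlib
import Groth.Agent.DimIneqLib.Basic

/-!
# The dimension inequality for morphisms of schemes locally of finite type (EGA IV 5.6.5)
-/

set_option autoImplicit false
universe u

open Cardinal AlgebraicGeometry CategoryTheory TopologicalSpace

noncomputable section

namespace DimIneqLib

/-- the transcendence degree of a ring map -/
def trH {k K : Type u} [CommRing k] [CommRing K] (g : k →+* K) : ℕ∞ :=
  letI := g.toAlgebra
  tr k K

/-- `ψ` exhibits every element of the field as a fraction -/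
def IsFrac {R k : Type u} [CommRing R] [Field k] (ψ : R →+* k) : Prop :=
  ∀ z : k, ∃ a b : R, ψ b ≠ 0 ∧ z * ψ b = ψ a

theorem IsFrac.lift {R k : Type u} [CommRing R] [Field k] {ψ : R →+* k} (h : IsFrac ψ) (I : Ideal R)
    (hI : ∀ r ∈ I, ψ r = 0) : IsFrac (Ideal.Quotient.lift I ψ hI) := fun z => by
  obtain ⟨a, b, hb, he⟩ := h z
  exact ⟨Ideal.Quotient.mk I a, Ideal.Quotient.mk I b, by simpa using hb, by simpa using he⟩

theorem isAlgebraic_of_isFrac {R k : Type u} [CommRing R] [Field k] (ψ : R →+* k) (h : IsFrac ψ) :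
    letI := ψ.toAlgebra
    Algebra.IsAlgebraic R k := by
  letI := ψ.toAlgebra
  refine ⟨fun z => ?_⟩
  obtain ⟨a, b, hb, he⟩ := h z
  refine ⟨Polynomial.C b * Polynomial.X - Polynomial.C a, fun h0 => hb ?_, ?_⟩
  · have := congrArg (fun f : Polynomial R => f.coeff 1) h0
    simp at this
    rw [this, map_zero]
  · simp only [map_sub, map_mul, Polynomial.aeval_C, Polynomial.aeval_X, RingHom.algebraMap_toAlgebra]
    rw [mul_comm, he, sub_self]

theorem trH_eq {R T k K : Type u} [CommRing R] [CommRing T] [Algebra R T] [Field k] [Field K]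
    (P : Ideal T) [P.IsPrime] (p : Ideal R) [p.IsPrime] [P.LiesOver p] (ψR : R →+* k) (ψT : T →+* K)
    (hR : RingHom.ker ψR = p) (hT : RingHom.ker ψT = P) (fR : IsFrac ψR) (fT : IsFrac ψT) (g : k →+* K)
    (hg : g.comp ψR = ψT.comp (algebraMap R T)) : trH g = tr (R ⧸ p) (T ⧸ P) := by
  let φR := Ideal.Quotient.lift p ψR (fun r hr => by rwa [← hR] at hr)
  let φT := Ideal.Quotient.lift P ψT (fun r hr => by rwa [← hT] at hr)
  letI : Algebra (R ⧸ p) k := φR.toAlgebra
  letI : Algebra (T ⧸ P) K := φT.toAlgebra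
  letI : Algebra k K := g.toAlgebra
  letI : Algebra (R ⧸ p) K := (g.comp φR).toAlgebra
  haveI : IsScalarTower (R ⧸ p) k K := IsScalarTower.of_algebraMap_eq fun _ => rfl
  haveI : IsScalarTower (R ⧸ p) (T ⧸ P) K := IsScalarTower.of_algebraMap_eq fun r => by
    obtain ⟨r, rfl⟩ := Ideal.Quotient.mk_surjective r
    exact RingHom.congr_fun hg r
  haveI : FaithfulSMul (R ⧸ p) k := (faithfulSMul_iff_algebraMap_injective _ _).mpr <|
    RingHom.lift_injective_of_ker_le_ideal p _ hR.le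
  haveI : FaithfulSMul (T ⧸ P) K := (faithfulSMul_iff_algebraMap_injective _ _).mpr <|
    RingHom.lift_injective_of_ker_le_ideal P _ hT.le
  haveI : Algebra.IsAlgebraic (R ⧸ p) k := isAlgebraic_of_isFrac φR (fR.lift p _)
  haveI : Algebra.IsAlgebraic (T ⧸ P) K := isAlgebraic_of_isFrac φT (fT.lift P _)
  have h1 := tr_add (R := R ⧸ p) (S := k) (T := K)
  have h2 := tr_add (R := R ⧸ p) (S := T ⧸ P) (T := K)
  rw [tr_eq_zero (R := R ⧸ p) (S := k), zero_add] at h1
  rw [tr_eq_zero (R := T ⧸ P) (S := K), add_zero] at h2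
  show tr k K = _
  rw [h1, h2]

theorem ker_evaluation {X : Scheme.{u}} {U : X.Opens} (hU : IsAffineOpen U) (x : X) (hx : x ∈ U) :
    RingHom.ker (X.evaluation U x hx).hom = (hU.primeIdealOf ⟨x, hx⟩).asIdeal ∧ IsFrac (X.evaluation U x hx).hom := by
  letI := TopCat.Presheaf.algebra_section_stalk X.presheaf (U := U) ⟨x, hx⟩
  have hloc : IsLocalization.AtPrime (X.presheaf.stalk x) (hU.primeIdealOf ⟨x, hx⟩).asIdeal :=
    hU.isLocalization_stalk ⟨x, hx⟩
  have hker : RingHom.ker (X.evaluation U x hx).hom = (hU.primeIdealOf ⟨x, hx⟩).asIdeal := by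
    ext a
    rw [RingHom.mem_ker, ← Scheme.germ_residue]
    show IsLocalRing.residue _ (algebraMap Γ(X, U) (X.presheaf.stalk x) a) = 0 ↔ _
    rw [IsLocalRing.residue_eq_zero_iff, IsLocalRing.mem_maximalIdeal, mem_nonunits_iff,
      IsLocalization.AtPrime.isUnit_to_map_iff (X.presheaf.stalk x) (hU.primeIdealOf ⟨x, hx⟩).asIdeal,
      Ideal.primeCompl, Submonoid.mem_mk]
    exact not_not
  refine ⟨hker, fun z => ?_⟩
  obtain ⟨z, rfl⟩ := IsLocalRing.residue_surjective z
  obtain ⟨⟨a, b⟩, he⟩ := IsLocalization.surj (hU.primeIdealOf ⟨x, hx⟩).asIdeal.primeCompl (S := X.presheaf.stalk x) z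
  refine ⟨a, b, fun h0 => b.2 ?_, ?_⟩
  · exact (SetLike.ext_iff.mp hker (b : Γ(X, U))).mp h0
  · have := congrArg (IsLocalRing.residue _) he
    rw [map_mul] at this
    exact this

theorem evaluation_appLE {X Y : Scheme.{u}} (f : X ⟶ Y) {U : Y.Opens} {V : X.Opens} (hVU : V ≤ f ⁻¹ᵁ U) (x : X)
    (hx : x ∈ V) :
    (f.residueFieldMap x).hom.comp (Y.evaluation U (f x) (hVU hx)).hom =
      (X.evaluation V x hx).hom.comp (f.appLE U V hVU).hom := by
  ext a
  show f.residueFieldMap x (Y.evaluation U (f x) (hVU hx) a) = X.evaluation V x hx (f.appLE U V hVU a)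
  rw [Scheme.evaluation_naturality_apply]
  rw [← Scheme.germ_residue, ← Scheme.germ_residue, Scheme.Hom.appLE]
  simp only [CommRingCat.comp_apply, TopCat.Presheaf.germ_res_apply]

theorem ringKrullDim_stalk {X : Scheme.{u}} {U : X.Opens} (hU : IsAffineOpen U) (x : X) (hx : x ∈ U) :
    ringKrullDim (X.presheaf.stalk x) = (hU.primeIdealOf ⟨x, hx⟩).asIdeal.height := by
  letI := TopCat.Presheaf.algebra_section_stalk X.presheaf (U := U) ⟨x, hx⟩
  haveI : IsLocalization.AtPrime (X.presheaf.stalk x) (hU.primeIdealOf ⟨x, hx⟩).asIdeal :=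
    hU.isLocalization_stalk ⟨x, hx⟩
  exact IsLocalization.AtPrime.ringKrullDim_eq_height (hU.primeIdealOf ⟨x, hx⟩).asIdeal _

theorem exists_minimal_height {S : Type u} [CommRing S] [IsNoetherianRing S] (p : Ideal S) [p.IsPrime] :
    ∃ (Q : Ideal S) (_ : Q.IsPrime), Q ∈ minimalPrimes S ∧ Q ≤ p ∧
      ∀ _ : (p.map (Ideal.Quotient.mk Q)).IsPrime, p.height ≤ (p.map (Ideal.Quotient.mk Q)).height := by
  obtain ⟨n, hn⟩ := ENat.ne_top_iff_exists.1 (Ideal.height_ne_top (I := p) Ideal.IsPrime.ne_top')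
  have hn' : Order.height (⟨p, inferInstance⟩ : PrimeSpectrum S) = n := by
    rw [← PrimeSpectrum.height_eq_orderHeight, hn]
  obtain ⟨l, hl, hlen⟩ := Order.exists_series_of_height_eq_coe _ hn'
  have hmin : IsMin l.head := by
    refine isMin_iff_forall_not_lt.mpr fun Q hQ => ?_
    have := Order.length_le_height_last (p := l.cons Q hQ)
    rw [RelSeries.last_cons, hl, hn', RelSeries.cons_length, hlen] at this
    exact absurd (ENat.natCast_le_natCast.mp this) (Nat.not_succ_le_self n)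
  refine ⟨l.head.asIdeal, l.head.2, ⟨⟨l.head.2, bot_le⟩, fun J hJ hle => ?_⟩, ?_, fun hp => ?_⟩
  · exact hmin (show (⟨J, hJ.1⟩ : PrimeSpectrum S) ≤ l.head from hle)
  · exact (show l.head ≤ (⟨p, inferInstance⟩ : PrimeSpectrum S) from hl ▸ l.head_le_last)
  let r (i : Fin (l.length + 1)) : PrimeSpectrum (S ⧸ l.head.asIdeal) :=
    ⟨(l i).asIdeal.map (Ideal.Quotient.mk _), Ideal.map_isPrime_of_surjective Ideal.Quotient.mk_surjective
      (by rw [Ideal.mk_ker]; exact l.head_le i)⟩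
  have hr : StrictMono r := fun i j hij => by
    refine lt_of_le_not_ge (show (r i).asIdeal ≤ (r j).asIdeal from Ideal.map_mono (l.strictMono hij).le)
      fun h => (l.strictMono hij).not_ge ?_
    have h' := Ideal.comap_mono (f := Ideal.Quotient.mk l.head.asIdeal) h
    simp only [r, Ideal.comap_map_of_surjective _ Ideal.Quotient.mk_surjective, ← RingHom.ker_eq_comap_bot,
      Ideal.mk_ker, sup_eq_left.mpr (show l.head.asIdeal ≤ (l _).asIdeal from l.head_le _)] at h'
    exact h'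
  have h1 := Order.length_le_height_last (p := LTSeries.mk l.length r hr)
  rw [← PrimeSpectrum.height_eq_orderHeight] at h1
  rw [← hn, ← hlen]
  refine h1.trans (le_of_eq ?_)
  show ((l (Fin.last _)).asIdeal.map _).height = _
  rw [show l (Fin.last _) = l.last from rfl, hl]

theorem height_map_quotient_le {S : Type u} [CommRing S] {P p : Ideal S} [p.IsPrime] (h : P ≤ p)
    [(p.map (Ideal.Quotient.mk P)).IsPrime] : (p.map (Ideal.Quotient.mk P)).height ≤ p.height := by
  have hc : (p.map (Ideal.Quotient.mk P)).comap (Ideal.Quotient.mk P) = p := by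
    rw [Ideal.comap_map_of_surjective _ Ideal.Quotient.mk_surjective, ← RingHom.ker_eq_comap_bot, Ideal.mk_ker,
      sup_eq_left.mpr h]
  have e := PrimeSpectrum.height_eq_orderHeight (⟨p.map (Ideal.Quotient.mk P), inferInstance⟩ : PrimeSpectrum (S ⧸ P))
  have e' := PrimeSpectrum.height_eq_orderHeight (⟨p, inferInstance⟩ : PrimeSpectrum S)
  simp only at e e'
  rw [e, e']
  refine (Order.height_le_height_apply_of_strictMono (PrimeSpectrum.comap (Ideal.Quotient.mk P))
    (Monotone.strictMono_of_injective (fun _ _ h => Ideal.comap_mono h)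
      (PrimeSpectrum.comap_injective_of_surjective _ Ideal.Quotient.mk_surjective)) _).trans (le_of_eq ?_)
  congr 1
  exact PrimeSpectrum.ext hc

/-- the dimension inequality at a point, for some generic point of a component through it -/
theorem stalk_le {X S : Scheme.{u}} [IsLocallyNoetherian S] (f : X ⟶ S) [LocallyOfFiniteType f] (x : X) :
    ∃ ξ : X, (∀ z, z ⤳ ξ → z = ξ) ∧ ξ ⤳ x ∧
      ringKrullDim (X.presheaf.stalk x) + (trH (f.residueFieldMap x).hom : WithBot ℕ∞) ≤
        ringKrullDim (S.presheaf.stalk (f x)) + (trH (f.residueFieldMap ξ).hom : WithBot ℕ∞) := by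
  obtain ⟨U, hU, hsU, -⟩ := exists_isAffineOpen_mem_and_subset (X := S) (x := f x) (U := ⊤) trivial
  obtain ⟨V, hV, hxV, hVU⟩ := exists_isAffineOpen_mem_and_subset (X := X) (x := x) (U := f ⁻¹ᵁ U) hsU
  haveI : IsNoetherianRing Γ(S, U) := IsLocallyNoetherian.component_noetherian ⟨U, hU⟩
  letI : Algebra Γ(S, U) Γ(X, V) := (f.appLE U V hVU).hom.toAlgebra
  haveI hft : Algebra.FiniteType Γ(S, U) Γ(X, V) := f.finiteType_appLE hU hV hVU
  haveI : IsNoetherianRing Γ(X, V) := Algebra.FiniteType.isNoetherianRing Γ(S, U) Γ(X, V)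
  let P := (hV.primeIdealOf ⟨x, hxV⟩).asIdeal
  let p := (hU.primeIdealOf ⟨f x, hVU hxV⟩).asIdeal
  have hover : P.comap (algebraMap Γ(S, U) Γ(X, V)) = p :=
    congrArg PrimeSpectrum.asIdeal (IsAffineOpen.comap_primeIdealOf_appLE U hU V hV hVU hxV)
  haveI : P.LiesOver p := ⟨hover.symm⟩
  obtain ⟨Q, hQp, hQmin, hQP, hQh⟩ := exists_minimal_height P
  let ξ : X := hV.fromSpec ⟨Q, hQp⟩
  have hξV : ξ ∈ V := by
    show ξ ∈ (V : Set X)
    rw [← hV.range_fromSpec]; exact ⟨_, rfl⟩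
  have hξQ : (hV.primeIdealOf ⟨ξ, hξV⟩) = ⟨Q, hQp⟩ :=
    hV.fromSpec.isOpenEmbedding.injective (hV.fromSpec_primeIdealOf _)
  have hξx : ξ ⤳ x := by
    have h := ((PrimeSpectrum.le_iff_specializes ⟨Q, hQp⟩ (hV.primeIdealOf ⟨x, hxV⟩)).mp hQP).map hV.fromSpec.continuous
    rwa [show hV.fromSpec (hV.primeIdealOf ⟨x, hxV⟩) = x from hV.fromSpec_primeIdealOf ⟨x, hxV⟩] at h
  have hξmax : ∀ z, z ⤳ ξ → z = ξ := fun z hz => by
    obtain ⟨q, rfl⟩ : z ∈ Set.range hV.fromSpec := by rw [hV.range_fromSpec]; exact hz.mem_open V.2 hξV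
    have hq : q.asIdeal ≤ Q :=
      (PrimeSpectrum.le_iff_specializes q ⟨Q, hQp⟩).mpr (hV.fromSpec.isOpenEmbedding.isInducing.specializes_iff.mp hz)
    exact congrArg hV.fromSpec (PrimeSpectrum.ext (le_antisymm hq (hQmin.2 ⟨q.2, bot_le⟩ hq)))
  refine ⟨ξ, hξmax, hξx, ?_⟩
  let p₀ := (hU.primeIdealOf ⟨f ξ, hVU hξV⟩).asIdeal
  have hover₀ : Q.comap (algebraMap Γ(S, U) Γ(X, V)) = p₀ := by
    have := congrArg PrimeSpectrum.asIdeal (IsAffineOpen.comap_primeIdealOf_appLE U hU V hV hVU hξV)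
    rw [hξQ] at this
    exact this
  haveI : Q.LiesOver p₀ := ⟨hover₀.symm⟩
  haveI : (P.map (Ideal.Quotient.mk Q)).IsPrime :=
    Ideal.map_isPrime_of_surjective Ideal.Quotient.mk_surjective (by rw [Ideal.mk_ker]; exact hQP)
  have hp₀p : p₀ ≤ p := by rw [← hover, ← hover₀]; exact Ideal.comap_mono hQP
  haveI : (p.map (Ideal.Quotient.mk p₀)).IsPrime :=
    Ideal.map_isPrime_of_surjective Ideal.Quotient.mk_surjective (by rw [Ideal.mk_ker]; exact hp₀p)
  let P' := P.map (Ideal.Quotient.mk Q)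
  let p' := p.map (Ideal.Quotient.mk p₀)
  have hP'c : P'.comap (Ideal.Quotient.mk Q) = P := by
    rw [Ideal.comap_map_of_surjective _ Ideal.Quotient.mk_surjective, ← RingHom.ker_eq_comap_bot, Ideal.mk_ker,
      sup_eq_left.mpr hQP]
  have hp'c : p'.comap (Ideal.Quotient.mk p₀) = p := by
    rw [Ideal.comap_map_of_surjective _ Ideal.Quotient.mk_surjective, ← RingHom.ker_eq_comap_bot, Ideal.mk_ker,
      sup_eq_left.mpr hp₀p]
  haveI : P'.LiesOver p' := ⟨Ideal.comap_injective_of_surjective _ Ideal.Quotient.mk_surjective (by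
    rw [hp'c, ← hover, ← hP'c, Ideal.under, Ideal.comap_comap, Ideal.comap_comap]
    rfl)⟩
  haveI : Algebra.FiniteType Γ(S, U) (Γ(X, V) ⧸ Q) :=
    Algebra.FiniteType.of_surjective (Ideal.Quotient.mkₐ Γ(S, U) Q) Ideal.Quotient.mk_surjective
  haveI : Algebra.FiniteType (Γ(S, U) ⧸ p₀) (Γ(X, V) ⧸ Q) :=
    Algebra.FiniteType.of_restrictScalars_finiteType Γ(S, U) _ _
  have hmain := main (R := Γ(S, U) ⧸ p₀) P' p'
  -- transcendence degrees
  have hx1 := ker_evaluation hV x hxV
  have hs1 := ker_evaluation hU (f x) (hVU hxV)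
  have e1 : tr ((Γ(S, U) ⧸ p₀) ⧸ p') ((Γ(X, V) ⧸ Q) ⧸ P') = trH (f.residueFieldMap x).hom := by
    refine (trH_eq P' p' (Ideal.Quotient.lift p₀ (S.evaluation U (f x) (hVU hxV)).hom fun r hr => ?_)
      (Ideal.Quotient.lift Q (X.evaluation V x hxV).hom fun r hr => ?_) ?_ ?_ (hs1.2.lift p₀ _) (hx1.2.lift Q _) _ ?_).symm
    · rw [← RingHom.mem_ker, hs1.1]; exact hp₀p hr
    · rw [← RingHom.mem_ker, hx1.1]; exact hQP hr
    · refine Ideal.comap_injective_of_surjective _ Ideal.Quotient.mk_surjective ?_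
      rw [hp'c, RingHom.comap_ker, Ideal.Quotient.lift_comp_mk, hs1.1]
    · refine Ideal.comap_injective_of_surjective _ Ideal.Quotient.mk_surjective ?_
      rw [hP'c, RingHom.comap_ker, Ideal.Quotient.lift_comp_mk, hx1.1]
    · refine Ideal.Quotient.ringHom_ext (RingHom.ext fun r => ?_)
      exact RingHom.congr_fun (evaluation_appLE f hVU x hxV) r
  have hξ1 := ker_evaluation hV ξ hξV
  have hfξ1 := ker_evaluation hU (f ξ) (hVU hξV)
  have e2 : tr (Γ(S, U) ⧸ p₀) (Γ(X, V) ⧸ Q) = trH (f.residueFieldMap ξ).hom :=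
    (trH_eq Q p₀ (S.evaluation U (f ξ) (hVU hξV)).hom (X.evaluation V ξ hξV).hom hfξ1.1
      (hξ1.1.trans (by rw [hξQ])) hfξ1.2 hξ1.2 _ (evaluation_appLE f hVU ξ hξV)).symm
  rw [e1, e2] at hmain
  have hle : P.height + trH (f.residueFieldMap x).hom ≤ p.height + trH (f.residueFieldMap ξ).hom := by
    refine le_trans (add_le_add (hQh inferInstance) le_rfl) (hmain.trans (add_le_add ?_ le_rfl))
    exact height_map_quotient_le hp₀p
  rw [ringKrullDim_stalk hV x hxV, ringKrullDim_stalk hU (f x) (hVU hxV)]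
  exact_mod_cast hle

theorem trH_natCast_le {k K : Type u} [CommRing k] [CommRing K] {g : k →+* K} {n : ℕ}
    (h : letI := g.toAlgebra; Algebra.trdeg k K ≤ n) : trH g ≤ n :=
  toENat_le_natCast.mpr h

theorem trH_eq_natCast {k K : Type u} [CommRing k] [CommRing K] {g : k →+* K} {n : ℕ}
    (h : letI := g.toAlgebra; Algebra.trdeg k K = n) : trH g = n :=
  toENat_eq_natCast.mpr h

end DimIneqLib

namespace DimIneqLib

theorem closure_mem_components {X : Scheme.{u}} {m : X} (hm : ∀ z, z ⤳ m → z = m) :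
    closure {m} ∈ irreducibleComponents X := by
  refine ⟨isIrreducible_singleton.closure, fun T hT hle => ?_⟩
  obtain ⟨z, hz⟩ := QuasiSober.sober hT.closure isClosed_closure
  obtain rfl := hm z (by
    rw [specializes_iff_mem_closure, hz.def]
    exact subset_closure (hle (subset_closure rfl)))
  exact subset_closure.trans hz.def.ge

end DimIneqLib
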