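import Mathlib
import Groth.Agent.DimIneqLib.Scheme
import Groth.Agent.UOpenLib.FibreDim

/-!
# Transcendence degrees of residue extensions and closures in fibres
-/

set_option autoImplicit false
universe u

open Cardinal AlgebraicGeometry CategoryTheory CategoryTheory.Limits TopologicalSpace

noncomputable section

namespace DimIneqLib

theorem trH_comp {k K L : Type u} [Field k] [Field K] [Field L] (g : k →+* K) (h : K →+* L) :
    trH (h.comp g) = trH g + trH h := by
  letI := g.toAlgebra
  letI := h.toAlgebra
  letI : Algebra k L := (h.comp g).toAlgebra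
  haveI : IsScalarTower k K L := IsScalarTower.of_algebraMap_eq fun _ => rfl
  exact (tr_add (R := k) (S := K) (T := L)).symm

theorem trH_of_bijective {k K : Type u} [Field k] [Field K] (g : k →+* K) (hg : Function.Bijective g) : trH g = 0 := by
  letI := g.toAlgebra
  haveI : Algebra.IsAlgebraic k K := ⟨fun z => by
    obtain ⟨a, rfl⟩ := hg.2 z
    exact isAlgebraic_algebraMap a⟩
  exact tr_eq_zero

theorem bijective_residueFieldMap {X Y : Scheme.{u}} (f : X ⟶ Y) [IsPreimmersion f] (x : X) :
    Function.Bijective (f.residueFieldMap x).hom := by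
  refine ⟨(f.residueFieldMap x).hom.injective, fun z => ?_⟩
  obtain ⟨b, rfl⟩ := IsLocalRing.residue_surjective z
  obtain ⟨a, rfl⟩ := f.stalkMap_surjective x b
  exact ⟨IsLocalRing.residue _ a, rfl⟩

theorem fromSpecResidueField_appTop (X : Scheme.{u}) (x : X) :
    (X.fromSpecResidueField x).appTop = X.Γevaluation x ≫ (Scheme.ΓSpecIso (X.residueField x)).inv := by
  have h : (Scheme.ΓSpecIso (X.presheaf.stalk x)).inv ≫ (Spec.map (X.residue x)).appTop =
      X.residue x ≫ (Scheme.ΓSpecIso (X.residueField x)).inv := (Scheme.ΓSpecIso_inv_naturality _).symm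
  rw [Scheme.fromSpecResidueField, Scheme.Hom.comp_appTop, Scheme.fromSpecStalk_appTop]
  simp only [Category.assoc]
  erw [CategoryTheory.Functor.map_id, Category.id_comp, h]
  rfl

theorem SpecMap_kappaMap {k : Type u} [Field k] (F : Over (Spec (CommRingCat.of k))) (z : F.left) :
    Spec.map (WeilLib.kappaMap F z) = F.left.fromSpecResidueField z ≫ F.hom := by
  refine ext_of_isAffine ?_
  rw [Scheme.Hom.comp_appTop, fromSpecResidueField_appTop, WeilLib.kappaMap,
    ← cancel_epi (Scheme.ΓSpecIso (CommRingCat.of k)).inv, ← Scheme.ΓSpecIso_inv_naturality]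
  simp only [Category.assoc]

theorem trH_residueFieldMap_fiber {X Y : Scheme.{u}} (f : X ⟶ Y) (y : Y) (z : f.fiber y) :
    trH (f.residueFieldMap (f.fiberι y z)).hom =
      trH (WeilLib.kappaMap (k := Y.residueField y) (Over.mk (f.fiberToSpecResidueField y)) z).hom := by
  let ι := f.fiberι y
  haveI : IsPreimmersion ι := MorphismProperty.pullback_fst _ _ inferInstance
  have hy : f (ι z) = y := by
    have h := Set.mem_range_self (f := ι.base) z
    rw [f.range_fiberι] at h
    exact h
  let K := WeilLib.kappaMap (k := Y.residueField y) (Over.mk (f.fiberToSpecResidueField y)) z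
  have key : f.residueFieldMap (ι z) ≫ ι.residueFieldMap z = (Y.residueFieldCongr hy).hom ≫ K := by
    apply Spec.map_injective
    rw [← cancel_mono (Y.fromSpecResidueField (f (ι z)))]
    simp only [Spec.map_comp, Category.assoc, Scheme.Hom.SpecMap_residueFieldMap_fromSpecResidueField,
      Scheme.Hom.SpecMap_residueFieldMap_fromSpecResidueField_assoc, Scheme.residueFieldCongr_fromSpecResidueField]
    rw [SpecMap_kappaMap]
    simp only [Over.mk_hom, Category.assoc]
    exact congrArg ((f.fiber y).fromSpecResidueField z ≫ ·) (pullback.condition (f := f) (g := Y.fromSpecResidueField y))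
  have h := congrArg (fun g => trH g) (congrArg CommRingCat.Hom.hom key)
  simp only [CommRingCat.hom_comp] at h
  rw [trH_comp, trH_comp, trH_of_bijective _ (bijective_residueFieldMap ι z),
    trH_of_bijective _ (ConcreteCategory.bijective_of_isIso (Y.residueFieldCongr hy).hom), zero_add, add_zero] at h
  exact h

theorem fibreClosureDim_eq_trH {X Y : Scheme.{u}} (f : X ⟶ Y) [LocallyOfFiniteType f] (x : X) :
    UOpenLib.fibreClosureDim f x = (trH (f.residueFieldMap x).hom : WithBot ℕ∞) := by
  haveI : LocallyOfFiniteType (Over.mk (f.fiberToSpecResidueField (f x))).hom := UOpenLib.lft_fiberToSpec f _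
  obtain ⟨s, hs, hs'⟩ := WeilLib.pdim_eq_trdeg (k := Y.residueField (f x))
    (Over.mk (f.fiberToSpecResidueField (f x))) (f.asFiber x)
  have h := trH_residueFieldMap_fiber f (f x) (f.asFiber x)
  rw [f.fiberι_asFiber x] at h
  rw [h, trH_eq_natCast hs']
  exact hs

end DimIneqLib
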