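import Mathlib
import Groth.Agent.DimIneqLib.Fibre
import Groth.Agent.UOpenLib.Chevalley
import Groth.Agent.FibDimLib.Semicont

/-!
# Dimensions of schemes and of their local rings; lower bound for closed maps
-/

set_option autoImplicit false
universe u

open AlgebraicGeometry CategoryTheory TopologicalSpace Topology

noncomputable section

namespace DimIneqLib

variable {X Y : Scheme.{u}}

theorem stalk_dim_le_dim (x : X) : ringKrullDim (X.presheaf.stalk x) ≤ topologicalKrullDim X := by
  rw [← PrimeSpectrum.topologicalKrullDim_eq_ringKrullDim]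
  exact (X.fromSpecStalk x).isEmbedding.isInducing.topologicalKrullDim_le

/-- a chain of generizations of length `m` ending at `x` -/
def ChainTo (x : X) (m : ℕ) : Prop :=
  ∃ c : Fin (m + 1) → X, FibDimLib.IsSpecChain c ∧ c (Fin.last m) = x

theorem chainTo_zero (x : X) : ChainTo x 0 :=
  ⟨fun _ => x, ⟨fun i j _ => Fin.ext (by omega), fun _ _ _ => specializes_rfl⟩, rfl⟩

theorem ChainTo.step {x x' : X} {m : ℕ} (h : ChainTo x m) (hs : x ⤳ x') (hne : x ≠ x') : ChainTo x' (m + 1) := by
  obtain ⟨c, ⟨hinj, hc⟩, rfl⟩ := h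
  have hlt : ∀ i, c i ≠ x' := fun i e => hne ((hs.antisymm (e ▸ hc i (Fin.last m) (Fin.le_last i))).eq)
  refine ⟨Fin.snoc c x', ⟨fun i j => ?_, fun i j hij => ?_⟩, Fin.snoc_last _ _⟩
  · induction i using Fin.lastCases with
    | last =>
      induction j using Fin.lastCases with
      | last => exact fun _ => rfl
      | cast j => intro e; rw [Fin.snoc_last, Fin.snoc_castSucc] at e; exact absurd e.symm (hlt j)
    | cast i =>
      induction j using Fin.lastCases with
      | last => intro e; rw [Fin.snoc_last, Fin.snoc_castSucc] at e; exact absurd e (hlt i)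
      | cast j => intro e; rw [Fin.snoc_castSucc, Fin.snoc_castSucc] at e; exact congrArg Fin.castSucc (hinj e)
  · induction j using Fin.lastCases with
    | last =>
      induction i using Fin.lastCases with
      | last => exact specializes_rfl
      | cast i =>
        rw [Fin.snoc_last, Fin.snoc_castSucc]
        exact (hc i (Fin.last m) (Fin.le_last i)).trans hs
    | cast j =>
      induction i using Fin.lastCases with
      | last => exact absurd hij (not_le.mpr (Fin.castSucc_lt_last j))
      | cast i => rw [Fin.snoc_castSucc, Fin.snoc_castSucc]; exact hc i j hij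

theorem ChainTo.le_dim {x : X} {m : ℕ} (h : ChainTo x m) : (m : WithBot ℕ∞) ≤ topologicalKrullDim X := by
  obtain ⟨c, hc, -⟩ := h
  exact hc.le_topologicalKrullDim

theorem exists_stalk_of_chain {n : ℕ} (h : (n : WithBot ℕ∞) ≤ topologicalKrullDim X) :
    ∃ x : X, (n : WithBot ℕ∞) ≤ ringKrullDim (X.presheaf.stalk x) := by
  obtain ⟨c, hinj, hc⟩ := FibDimLib.exists_specChain h
  refine ⟨c (Fin.last n), ?_⟩
  rw [← PrimeSpectrum.topologicalKrullDim_eq_ringKrullDim]
  have hr : ∀ i, c i ∈ Set.range (X.fromSpecStalk (c (Fin.last n))) := fun i => by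
    rw [Scheme.range_fromSpecStalk]
    exact hc i _ (Fin.le_last i)
  choose d hd using hr
  exact FibDimLib.IsSpecChain.le_topologicalKrullDim (c := d)
    ⟨fun i j e => hinj (by rw [← hd i, ← hd j, e]), fun i j hij =>
      (X.fromSpecStalk _).isEmbedding.isInducing.specializes_iff.mp (by rw [hd i, hd j]; exact hc i j hij)⟩

theorem exists_chain_down (g : X ⟶ Y) [LocallyOfFiniteType g] (hg : IsClosedMap g.base) (n : ℕ) {x : X} {m : ℕ}
    (hx : ChainTo x m) (hd : (n : WithBot ℕ∞) ≤ UOpenLib.fibreClosureDim g x) {y : Y} (hy : g.base x ⤳ y)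
    (hne : g.base x ≠ y) :
    ∃ x' : X, g.base x' = y ∧ ChainTo x' (m + 1) ∧ (n : WithBot ℕ∞) ≤ UOpenLib.fibreClosureDim g x' := by
  obtain ⟨x₁, hx₁, hxy⟩ := hg.specializingMap hy
  let Z : Closeds X := ⟨closure {x}, isClosed_closure⟩
  let ι := (Scheme.IdealSheafData.vanishingIdeal Z).subschemeι
  have hrange : Set.range ι.base = closure {x} := by
    rw [Scheme.IdealSheafData.range_subschemeι, Scheme.IdealSheafData.coe_support_vanishingIdeal]
    rfl
  obtain ⟨a, ha⟩ : x ∈ Set.range ι.base := by rw [hrange]; exact subset_closure rfl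
  obtain ⟨b, hb⟩ : x₁ ∈ Set.range ι.base := by rw [hrange]; exact hx₁.mem_closure
  have hab : a ⤳ b := ι.isEmbedding.isInducing.specializes_iff.mp (by rw [ha, hb]; exact hx₁)
  have hfib : ∀ w, UOpenLib.fibreClosureDim (ι ≫ g) w = topologicalKrullDim ↥(closure {ι.base w} ∩ g.base ⁻¹' {g.base (ι.base w)}) := by
    intro w
    rw [UOpenLib.fibreClosureDim_eq_inter]
    let r : ↥(closure ({w} : Set _) ∩ (ι ≫ g).base ⁻¹' {(ι ≫ g).base w}) →
        ↥(closure {ι.base w} ∩ g.base ⁻¹' {g.base (ι.base w)}) := fun v =>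
      ⟨ι.base v.1, image_closure_subset_closure_image ι.continuous ⟨v.1, v.2.1, rfl⟩ |> fun h => by
        rwa [Set.image_singleton] at h, v.2.2⟩
    have hr : Function.Bijective r := by
      refine ⟨fun u v e => Subtype.ext (ι.isEmbedding.injective (congrArg Subtype.val e :)), fun v => ?_⟩
      have hv : v.1 ∈ ι.base '' closure {w} := by
        rw [← ι.isClosedEmbedding.closure_image_eq, Set.image_singleton]
        exact v.2.1
      obtain ⟨v', hv', he⟩ := hv
      exact ⟨⟨v', hv', by show g.base (ι.base v') = _; rw [he]; exact v.2.2⟩, Subtype.ext he⟩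
    have hri : IsInducing r := by
      refine IsInducing.of_comp ((ι.continuous.comp continuous_subtype_val).subtype_mk _) continuous_subtype_val ?_
      exact ι.isEmbedding.isInducing.comp IsInducing.subtypeVal
    exact IsHomeomorph.topologicalKrullDim_eq _
      (isHomeomorph_iff_isEmbedding_surjective.mpr ⟨⟨hri, hr.1⟩, hr.2⟩)
  have hda : (n : WithBot ℕ∞) ≤ UOpenLib.fibreClosureDim (ι ≫ g) a := by
    rw [hfib, ha, ← UOpenLib.fibreClosureDim_eq_inter]; exact hd
  obtain ⟨b₀, hb₀, -, -, he⟩ := UOpenLib.exists_max_fibreDimAt (ι ≫ g) b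
  have hge : (n : WithBot ℕ∞) ≤ UOpenLib.fibreClosureDim (ι ≫ g) b₀ :=
    he ▸ hda.trans (UOpenLib.fibreClosureDim_le_fibreDimAt (ι ≫ g) hab)
  rw [hfib, ← UOpenLib.fibreClosureDim_eq_inter] at hge
  have hgb : g.base (ι.base b₀) = y := hb₀.trans (by show g.base (ι.base b) = y; rw [hb]; exact hxy)
  refine ⟨ι.base b₀, hgb, hx.step (specializes_iff_mem_closure.mpr (hrange ▸ ⟨b₀, rfl⟩)) ?_, hge⟩
  intro e
  exact hne (by rw [e]; exact hgb)

theorem exists_chain_fibre (g : X ⟶ Y) [LocallyOfFiniteType g] {x : X} {m n : ℕ}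
    (hx : ChainTo x m) (hd : (n : WithBot ℕ∞) ≤ UOpenLib.fibreClosureDim g x) :
    ∃ z : X, ChainTo z (m + n) := by
  rw [UOpenLib.fibreClosureDim_eq_inter] at hd
  have hq : QuasiSober ↥(closure ({x} : Set X) ∩ g.base ⁻¹' {g.base x}) := by
    let e := ((g.fiberι (g.base x)).isEmbedding.homeomorphImage (closure {g.asFiber x}))
    have h : (g.fiberι (g.base x)).base '' closure {g.asFiber x} = closure {x} ∩ g.base ⁻¹' {g.base x} := by
      rw [(g.fiberι (g.base x)).isEmbedding.isInducing.closure_eq_preimage_closure_image, Set.image_singleton,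
        g.fiberι_asFiber, Set.image_preimage_eq_inter_range, g.range_fiberι]
    haveI : QuasiSober (closure ({g.asFiber x} : Set (g.fiber (g.base x)))) :=
      isClosed_closure.isClosedEmbedding_subtypeVal.quasiSober
    exact (e.trans (Homeomorph.setCongr h)).symm.isClosedEmbedding.quasiSober
  obtain ⟨c, hc, hcs⟩ := FibDimLib.exists_specChain hd
  have key : ∀ k (hk : k < n + 1), ChainTo (c ⟨k, hk⟩).1 (m + k) := fun k => by
    induction k with
    | zero =>
      intro hk
      by_cases h0 : x = (c ⟨0, hk⟩).1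
      · rw [← h0]; exact hx
      · obtain ⟨d, hd1, hd2⟩ := hx.step (specializes_iff_mem_closure.mpr (c ⟨0, hk⟩).2.1) h0
        exact ⟨fun i => d i.succ, ⟨fun i j e => Fin.succ_injective _ (hd1.1 e),
          fun i j hij => hd1.2 _ _ (Fin.succ_le_succ_iff.mpr hij)⟩, by rw [← hd2]; rfl⟩
    | succ k ih =>
      intro hk
      refine (ih (Nat.lt_of_succ_lt hk)).step ((hcs ⟨k, Nat.lt_of_succ_lt hk⟩ ⟨k + 1, hk⟩ (Nat.le_succ k)).map
        continuous_subtype_val) fun e => ?_
      have := congrArg Fin.val (hc (Subtype.ext e))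
      simp at this
  exact ⟨_, key n (Nat.lt_succ_self n)⟩

end DimIneqLib
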