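import Mathlib
import Groth.Agent.DimIneqLib.Basic
import Groth.Agent.CatLib.Basic

/-!
# The dimension formula over universally catenary domains
-/

set_option autoImplicit false
universe u

open Polynomial

noncomputable section

namespace DimIneqLib

theorem height_last_eq {R : Type u} [CommRing R] [IsNoetherianRing R] [IsDomain R] (h : CAlg.IsCatenary R)
    (s : LTSeries (PrimeSpectrum R)) (hs : CatLib.Saturated s) :
    s.last.asIdeal.height = s.head.asIdeal.height + s.length := by
  have key : ∀ (i : ℕ) (hi : i < s.length + 1), (s ⟨i, hi⟩).asIdeal.height = s.head.asIdeal.height + i := by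
    intro i
    induction i with
    | zero => intro hi; simp [RelSeries.head]
    | succ i ih =>
      intro hi
      have hstep := CatLib.isCatenary_height_covBy h (hs ⟨i, by omega⟩)
      show (s (Fin.succ (⟨i, by omega⟩ : Fin s.length))).asIdeal.height = _
      rw [hstep]
      show (s ⟨i, _⟩).asIdeal.height + 1 = _
      rw [ih, Nat.cast_add, Nat.cast_one, add_assoc]
  exact key s.length (Nat.lt_succ_self _)

/-- Heights add up in catenary domains. -/
theorem height_eq_add_of_catenary {R T : Type u} [CommRing R] [IsNoetherianRing R] [IsDomain R]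
    (h : CAlg.IsCatenary R) [CommRing T] [IsDomain T] (φ : R →+* T) (hφ : Function.Surjective φ)
    (q : Ideal T) [q.IsPrime] : (q.comap φ).height = (RingHom.ker φ).height + q.height := by
  haveI : IsNoetherianRing T := isNoetherianRing_of_surjective R T φ hφ
  have hT : CAlg.IsCatenary T := CatLib.isCatenary_of_surjective φ hφ h
  let b : PrimeSpectrum T := ⟨⊥, Ideal.isPrime_bot⟩
  have hbq : b ≤ ⟨q, inferInstance⟩ := (bot_le : (⊥ : Ideal T) ≤ q)
  obtain ⟨s, hs1, hs2, hs, -⟩ := CatLib.exists_saturated hbq
    (CatLib.bounded_of_height CatLib.height_ne_top _ _)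
  have h1 := height_last_eq hT s hs
  rw [hs1, hs2, show b.asIdeal.height = 0 from Ideal.height_bot, zero_add] at h1
  let f : PrimeSpectrum T ↪o PrimeSpectrum R :=
    OrderEmbedding.ofMapLEIff (PrimeSpectrum.comap φ) fun x y => by
      refine ⟨fun h => ?_, fun h => Ideal.comap_mono h⟩
      have := Ideal.map_mono (f := φ) (show x.asIdeal.comap φ ≤ y.asIdeal.comap φ from h)
      simpa [Ideal.map_comap_of_surjective _ hφ] using this
  have hf : (Set.range f).OrdConnected := by
    show (Set.range (PrimeSpectrum.comap φ)).OrdConnected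
    rw [range_comap_of_surjective _ _ hφ]
    exact ⟨fun a ha _ _ c hc => fun x hx => hc.1 (ha hx)⟩
  have h2 := height_last_eq h (s.map f f.strictMono) fun i => CovBy.image f (hs i) hf
  rw [LTSeries.last_map, LTSeries.head_map, hs1, hs2] at h2
  rw [h1]
  show (q.comap φ).height = _
  refine h2.trans ?_
  rw [show (f b).asIdeal = RingHom.ker φ from (RingHom.ker_eq_comap_bot φ).symm]
  rfl

theorem simple_aux {R T : Type u} [CommRing R] [IsDomain R] [IsNoetherianRing R] [CommRing T] [Algebra R T]
    (x : T) (hx : Algebra.adjoin R {x} = ⊤) (q : Ideal T) [q.IsPrime] (p : Ideal R) [p.IsPrime] [q.LiesOver p] :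
    (q.comap (Polynomial.aeval (R := R) x).toRingHom).height + tr (R ⧸ p) (T ⧸ q) = p.height + 1 := by
  have hs : Function.Surjective (Polynomial.aeval (R := R) x) := by
    rw [← AlgHom.range_eq_top, ← Algebra.adjoin_singleton_eq_range_aeval, hx]
  let φ : R[X] →+* T := (Polynomial.aeval (R := R) x).toRingHom
  let Q : Ideal R[X] := q.comap φ
  haveI : Q.LiesOver p := ⟨by
    rw [q.over_def p]
    show _ = (q.comap φ).comap (algebraMap R R[X])
    rw [Ideal.comap_comap]
    exact congrArg (fun g => q.comap g) (RingHom.ext fun b => by simp [φ])⟩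
  have hpC : (p.map Polynomial.C).IsPrime := Ideal.isPrime_map_C_of_isPrime
  have hle : p.map Polynomial.C ≤ Q := by
    rw [Ideal.map_le_iff_le_comap]; exact le_of_eq (Q.over_def p)
  have hx' : Algebra.adjoin (R ⧸ p) {Ideal.Quotient.mk q x} = ⊤ := by
    refine top_le_iff.mp fun t _ => ?_
    obtain ⟨t, rfl⟩ := Ideal.Quotient.mk_surjective t
    obtain ⟨g, rfl⟩ := hs t
    induction g using Polynomial.induction_on' with
    | add a b ha hb => rw [map_add, map_add]; exact add_mem (ha trivial) (hb trivial)
    | monomial n a =>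
      rw [Polynomial.aeval_monomial, map_mul, map_pow]
      refine Subalgebra.mul_mem _ ?_ (Subalgebra.pow_mem _ (Algebra.subset_adjoin (Set.mem_singleton _)) n)
      rw [show Ideal.Quotient.mk q (algebraMap R T a) = algebraMap (R ⧸ p) (T ⧸ q) (Ideal.Quotient.mk p a) from (Ideal.Quotient.algebraMap_mk_of_liesOver q p a).symm]
      exact Subalgebra.algebraMap_mem _ _
  have heval : ∀ f : R[X], Polynomial.aeval (Ideal.Quotient.mk q x) (f.map (Ideal.Quotient.mk p)) =
      Ideal.Quotient.mk q (Polynomial.aeval x f) := fun f => by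
    rw [Polynomial.aeval_def, Polynomial.eval₂_map,
      show (algebraMap (R ⧸ p) (T ⧸ q)).comp (Ideal.Quotient.mk p) = (Ideal.Quotient.mk q).comp (algebraMap R T) from
        RingHom.ext fun _ => rfl, ← Polynomial.hom_eval₂]
    rfl
  show Q.height + _ = _
  by_cases hQ : Q = p.map Polynomial.C
  · have h1 : Q.height = p.height := by
      refine le_antisymm ((height_le_of_lies_over p Q).2 hQ) ?_
      rw [Ideal.height_eq_height_add_of_liesOver_of_hasGoingDown p Q]
      exact le_self_add
    have h2 : tr (R ⧸ p) (T ⧸ q) = 1 := by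
      refine le_antisymm ?_ ?_
      · rw [tr, Cardinal.toENat_le_one]
        have : Algebra.IsAlgebraic (Algebra.adjoin (R ⧸ p) ({Ideal.Quotient.mk q x} : Set (T ⧸ q))) (T ⧸ q) :=
          ⟨fun t => isAlgebraic_algebraMap (⟨t, hx'.ge trivial⟩ : Algebra.adjoin (R ⧸ p) _)⟩
        simpa using Algebra.IsAlgebraic.trdeg_le_cardinalMk (R := R ⧸ p) (A := T ⧸ q) ({Ideal.Quotient.mk q x} : Set (T ⧸ q))
      · have hinj : Function.Injective (Polynomial.aeval (R := R ⧸ p) (Ideal.Quotient.mk q x)) := by
          rw [injective_iff_map_eq_zero]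
          intro g hg
          obtain ⟨f, rfl⟩ := Polynomial.map_surjective _ Ideal.Quotient.mk_surjective g
          rw [heval, Ideal.Quotient.eq_zero_iff_mem] at hg
          have hfp : f ∈ p.map Polynomial.C := hQ ▸ (hg : f ∈ Q)
          ext n
          rw [Polynomial.coeff_map, Polynomial.coeff_zero, Ideal.Quotient.eq_zero_iff_mem]
          exact Ideal.mem_map_C_iff.mp hfp n
        have hai : Transcendental (R ⧸ p) (Ideal.Quotient.mk q x) := transcendental_iff_injective.mpr hinj
        rw [tr, show (1 : ℕ∞) = Cardinal.toENat 1 from (map_one _).symm]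
        refine OrderHomClass.mono _ ?_
        simpa using ((algebraicIndependent_unique_type_iff
          (x := fun _ : PUnit.{u + 1} => Ideal.Quotient.mk q x)).mpr hai).cardinalMk_le_trdeg
    rw [h1, h2]
  · obtain ⟨f, hfQ, hfp⟩ := SetLike.exists_of_lt (hle.lt_of_ne (Ne.symm hQ))
    have h2 : tr (R ⧸ p) (T ⧸ q) = 0 := by
      haveI : Algebra.IsAlgebraic (R ⧸ p) (T ⧸ q) := by
        refine ⟨fun t => ?_⟩
        have h := (Algebra.isAlgebraic_adjoin_singleton_iff (R := R ⧸ p) (s := Ideal.Quotient.mk q x)).mpr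
          ⟨f.map (Ideal.Quotient.mk p), fun h0 => hfp (Ideal.mem_map_C_iff.mpr fun n => by
            rw [← Ideal.Quotient.eq_zero_iff_mem, ← Polynomial.coeff_map, h0, Polynomial.coeff_zero]),
           by rw [heval]; exact Ideal.Quotient.eq_zero_iff_mem.mpr hfQ⟩
        rw [hx'] at h
        exact h t trivial
      exact tr_eq_zero
    rw [h2, add_zero]
    refine le_antisymm (height_le_of_lies_over p Q).1 ?_
    rw [Ideal.height_eq_height_add_of_liesOver_of_hasGoingDown p Q]
    refine add_le_add le_rfl (ENat.one_le_iff_ne_zero.mpr fun h0 => ?_)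
    let I := p.map (algebraMap R R[X])
    haveI : I.IsPrime := hpC
    haveI : (Q.map (Ideal.Quotient.mk I)).IsPrime :=
      Ideal.map_isPrime_of_surjective Ideal.Quotient.mk_surjective (by rw [Ideal.mk_ker]; exact hle)
    have hbot : Q.map (Ideal.Quotient.mk I) = ⊥ := by
      have hmin := Ideal.height_eq_zero_iff.mp h0
      rw [IsDomain.minimalPrimes_eq_singleton_bot, Set.mem_singleton_iff] at hmin
      exact hmin
    exact hfp ((Ideal.map_eq_bot_iff_le_ker _).mp hbot |>.trans (le_of_eq Ideal.mk_ker) hfQ)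

theorem simple_eq {R T : Type u} [CommRing R] [IsDomain R] (hR : CAlg.IsUniversallyCatenary R)
    [CommRing T] [IsDomain T] [Algebra R T] [FaithfulSMul R T] (x : T) (hx : Algebra.adjoin R {x} = ⊤)
    (q : Ideal T) [q.IsPrime] (p : Ideal R) [p.IsPrime] [q.LiesOver p] :
    q.height + tr (R ⧸ p) (T ⧸ q) = p.height + tr R T := by
  haveI : IsNoetherianRing R := hR.1
  have hs : Function.Surjective (Polynomial.aeval (R := R) x) := by
    rw [← AlgHom.range_eq_top, ← Algebra.adjoin_singleton_eq_range_aeval, hx]
  let φ : R[X] →+* T := (Polynomial.aeval (R := R) x).toRingHom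
  have hcat : CAlg.IsCatenary R[X] := hR.2 R[X] inferInstance
  have hadd := height_eq_add_of_catenary hcat φ hs q
  have hA := simple_aux x hx q p
  haveI : (⊥ : Ideal T).IsPrime := Ideal.isPrime_bot
  haveI : (⊥ : Ideal T).LiesOver (⊥ : Ideal R) := ⟨by
    rw [Ideal.under, ← RingHom.ker_eq_comap_bot]
    exact ((RingHom.injective_iff_ker_eq_bot _).mp (FaithfulSMul.algebraMap_injective R T)).symm⟩
  have hB : (RingHom.ker φ).height + tr R T = 1 := by
    by_cases hP : RingHom.ker φ = ⊥
    · have hinj : Function.Injective φ := (RingHom.injective_iff_ker_eq_bot φ).mpr hP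
      rw [hP, Ideal.height_bot, zero_add]
      refine le_antisymm ?_ ?_
      · rw [tr, Cardinal.toENat_le_one]
        have : Algebra.IsAlgebraic (Algebra.adjoin R ({x} : Set T)) T :=
          ⟨fun t => isAlgebraic_algebraMap (⟨t, hx.ge trivial⟩ : Algebra.adjoin R _)⟩
        simpa using Algebra.IsAlgebraic.trdeg_le_cardinalMk (R := R) (A := T) ({x} : Set T)
      · have hai : Transcendental R x := transcendental_iff_injective.mpr hinj
        rw [tr, show (1 : ℕ∞) = Cardinal.toENat 1 from (map_one _).symm]
        refine OrderHomClass.mono _ ?_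
        simpa using ((algebraicIndependent_unique_type_iff (x := fun _ : PUnit.{u + 1} => x)).mpr hai).cardinalMk_le_trdeg
    · obtain ⟨f, hf, hf0⟩ := Submodule.exists_mem_ne_zero_of_ne_bot hP
      haveI : Algebra.IsAlgebraic R T := ⟨fun t => by
        have h := (Algebra.isAlgebraic_adjoin_singleton_iff (R := R) (s := x)).mpr ⟨f, hf0, hf⟩
        rw [hx] at h
        exact h t trivial⟩
      rw [tr_eq_zero, add_zero]
      have hkp : (RingHom.ker φ).IsPrime := RingHom.ker_isPrime φ
      haveI : (RingHom.ker φ).LiesOver (⊥ : Ideal R) := ⟨by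
        rw [Ideal.under, RingHom.comap_ker]
        symm
        rw [← RingHom.injective_iff_ker_eq_bot]
        intro a b hab
        exact FaithfulSMul.algebraMap_injective R T (by simpa [φ] using hab)⟩
      refine le_antisymm (by simpa using (height_le_of_lies_over (⊥ : Ideal R) (RingHom.ker φ)).1) ?_
      refine ENat.one_le_iff_ne_zero.mpr fun h0 => hP ?_
      have hmin := Ideal.height_eq_zero_iff.mp h0
      rwa [IsDomain.minimalPrimes_eq_singleton_bot, Set.mem_singleton_iff] at hmin
  rw [hadd] at hA
  obtain ⟨k, hk⟩ := ENat.ne_top_iff_exists.mp (Ideal.height_ne_top (I := RingHom.ker φ) (RingHom.ker_ne_top φ))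
  rw [← hB, ← hk] at hA
  refine ENat.add_left_injective_of_ne_top (ENat.coe_ne_top k) ?_
  show q.height + tr (R ⧸ p) (T ⧸ q) + k = p.height + tr R T + k
  rw [add_comm (q.height + _), ← add_assoc, add_assoc p.height, add_comm (tr R T)]
  exact hA

theorem main_eq_aux {R : Type u} [CommRing R] [IsDomain R] (hR : CAlg.IsUniversallyCatenary R)
    (p : Ideal R) [p.IsPrime] (n : ℕ) :
    ∀ (T : Type u) [CommRing T] [IsDomain T] [Algebra R T] [FaithfulSMul R T] (f : Fin n → T),
      Algebra.adjoin R (Set.range f) = ⊤ → ∀ (q : Ideal T) [q.IsPrime] [q.LiesOver p],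
        q.height + tr (R ⧸ p) (T ⧸ q) = p.height + tr R T := by
  induction n with
  | zero =>
    intro T _ _ _ _ f hf q _ _
    have hsurj : Function.Surjective (algebraMap R T) := fun t => by
      rw [Set.range_eq_empty f, Algebra.adjoin_empty] at hf
      exact Algebra.mem_bot.mp (hf.ge trivial)
    let e : R ≃+* T := RingEquiv.ofBijective _ ⟨FaithfulSMul.algebraMap_injective R T, hsurj⟩
    haveI : Algebra.IsAlgebraic (R ⧸ p) (T ⧸ q) := ⟨fun t => by
      obtain ⟨t, rfl⟩ := Ideal.Quotient.mk_surjective t
      obtain ⟨r, rfl⟩ := hsurj t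
      exact isAlgebraic_algebraMap (Ideal.Quotient.mk p r)⟩
    haveI : Algebra.IsAlgebraic R T := ⟨fun t => by
      obtain ⟨r, rfl⟩ := hsurj t
      exact isAlgebraic_algebraMap r⟩
    rw [tr_eq_zero, tr_eq_zero, show p = q.comap e from q.over_def p, e.height_comap]
  | succ n ih =>
    intro T _ _ _ _ f hf q _ _
    haveI : IsNoetherianRing R := hR.1
    let R' := Algebra.adjoin R (Set.range fun i : Fin n => f i.castSucc)
    haveI hR'ft : Algebra.FiniteType R R' := Algebra.FiniteType.adjoin_of_finite (Set.finite_range _)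
    haveI : IsNoetherianRing R' := Algebra.FiniteType.isNoetherianRing R R'
    have hR' : CAlg.IsUniversallyCatenary R' := ⟨inferInstance, fun S _ _ hS => by
      letI : Algebra R S := ((algebraMap R' S).comp (algebraMap R R')).toAlgebra
      haveI : IsScalarTower R R' S := IsScalarTower.of_algebraMap_eq fun _ => rfl
      exact hR.2 S (Algebra.FiniteType.trans hR'ft hS)⟩
    let p' : Ideal R' := q.comap (algebraMap R' T)
    haveI : q.LiesOver p' := ⟨rfl⟩
    haveI : p'.LiesOver p := ⟨by
      rw [q.over_def p]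
      show _ = (q.comap (algebraMap R' T)).comap (algebraMap R R')
      rw [Ideal.comap_comap]
      rfl⟩
    haveI : FaithfulSMul R R' := (faithfulSMul_iff_algebraMap_injective R R').mpr fun u v h =>
      FaithfulSMul.algebraMap_injective R T (congrArg (fun w : R' => (w : T)) h)
    haveI : FaithfulSMul R' T := (faithfulSMul_iff_algebraMap_injective R' T).mpr Subtype.val_injective
    have hfun : Algebra.adjoin R (Set.range fun i : Fin n => (⟨f i.castSucc, Algebra.subset_adjoin ⟨i, rfl⟩⟩ : R')) = ⊤ := by
      refine Subalgebra.map_injective (f := R'.val) Subtype.val_injective ?_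
      rw [AlgHom.map_adjoin, ← Set.range_comp, Algebra.map_top, Subalgebra.range_val]
      rfl
    have h1 := ih R' _ hfun p'
    have hx : Algebra.adjoin R' ({f (Fin.last n)} : Set T) = ⊤ := by
      refine top_le_iff.mp fun t _ => ?_
      have ht : t ∈ Algebra.adjoin R (Set.range f) := hf.ge trivial
      have hle : Algebra.adjoin R (Set.range f) ≤ (Algebra.adjoin R' ({f (Fin.last n)} : Set T)).restrictScalars R := by
        refine Algebra.adjoin_le ?_
        rintro _ ⟨i, rfl⟩
        induction i using Fin.lastCases with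
        | last => exact Algebra.subset_adjoin rfl
        | cast i => exact Subalgebra.algebraMap_mem _ (⟨f i.castSucc, Algebra.subset_adjoin ⟨i, rfl⟩⟩ : R')
      exact hle ht
    have h2 := simple_eq hR' (f (Fin.last n)) hx q p'
    haveI : IsScalarTower (R ⧸ p) (R' ⧸ p') (T ⧸ q) := IsScalarTower.of_algebraMap_eq fun r => by
      obtain ⟨r, rfl⟩ := Ideal.Quotient.mk_surjective r
      exact congrArg (Ideal.Quotient.mk q) (IsScalarTower.algebraMap_apply R R' T r)
    rw [← tr_add (R := R ⧸ p) (S := R' ⧸ p') (T := T ⧸ q), ← tr_add (R := R) (S := R') (T := T)]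
    calc q.height + (tr (R ⧸ p) (R' ⧸ p') + tr (R' ⧸ p') (T ⧸ q))
        = (q.height + tr (R' ⧸ p') (T ⧸ q)) + tr (R ⧸ p) (R' ⧸ p') := by ring
      _ = (p'.height + tr R' T) + tr (R ⧸ p) (R' ⧸ p') := by rw [h2]
      _ = (p'.height + tr (R ⧸ p) (R' ⧸ p')) + tr R' T := by ring
      _ = (p.height + tr R R') + tr R' T := by rw [h1]
      _ = p.height + (tr R R' + tr R' T) := by ring

/-- The dimension formula. -/
theorem main_eq {R T : Type u} [CommRing R] [IsDomain R] (hR : CAlg.IsUniversallyCatenary R) [CommRing T]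
    [IsDomain T] [Algebra R T] [FaithfulSMul R T] [Algebra.FiniteType R T] (q : Ideal T) [q.IsPrime]
    (p : Ideal R) [p.IsPrime] [q.LiesOver p] :
    q.height + tr (R ⧸ p) (T ⧸ q) = p.height + tr R T := by
  obtain ⟨n, φ, hφ⟩ := Algebra.FiniteType.iff_quotient_mvPolynomial''.mp (inferInstance : Algebra.FiniteType R T)
  refine main_eq_aux hR p n T (fun i => φ (MvPolynomial.X i)) ?_ q
  rw [show (fun i => φ (MvPolynomial.X i)) = φ ∘ MvPolynomial.X from rfl, Set.range_comp, ← AlgHom.map_adjoin,
    MvPolynomial.adjoin_range_X, Algebra.map_top, AlgHom.range_eq_top]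
  exact hφ

end DimIneqLib
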