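import Mathlib
import Groth.Agent.DimIneqLib.Equality
import Groth.Agent.CatLib.More

/-!
# The dimension formula when the local ring of the base is universally catenary
-/

set_option autoImplicit false
universe u

noncomputable section

namespace DimIneqLib

/-- A residue ring of a localization is algebraic over the residue ring below. -/
theorem isAlgebraic_quotient_of_isLocalization {A B : Type u} [CommRing A] [CommRing B] [Algebra A B]
    (M : Submonoid A) [IsLocalization M B] (Q : Ideal B) [Q.IsPrime] (P : Ideal A) [P.IsPrime] [Q.LiesOver P] :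
    Algebra.IsAlgebraic (A ⧸ P) (B ⧸ Q) := by
  refine ⟨fun t => ?_⟩
  obtain ⟨t, rfl⟩ := Ideal.Quotient.mk_surjective t
  obtain ⟨⟨a, m⟩, h⟩ := IsLocalization.surj M t
  refine ⟨Polynomial.C (Ideal.Quotient.mk P m.1) * Polynomial.X - Polynomial.C (Ideal.Quotient.mk P a),
    fun eq => ?_, ?_⟩
  · have h1 : Ideal.Quotient.mk P m.1 = 0 := by
      simpa [Polynomial.coeff_sub, Polynomial.coeff_C] using congr(Polynomial.coeff $eq 1)
    have h2 : algebraMap A B m.1 ∈ Q := by
      have h3 := Ideal.Quotient.eq_zero_iff_mem.mp h1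
      rw [Q.over_def P] at h3
      exact h3
    exact ‹Q.IsPrime›.ne_top (Ideal.eq_top_of_isUnit_mem _ h2 (IsLocalization.map_units B m))
  · rw [map_sub, map_mul, Polynomial.aeval_C, Polynomial.aeval_C, Polynomial.aeval_X,
      Ideal.Quotient.algebraMap_mk_of_liesOver, Ideal.Quotient.algebraMap_mk_of_liesOver, ← map_mul, ← map_sub]
    rw [show algebraMap A B m.1 * t - algebraMap A B a = 0 from sub_eq_zero.mpr (by rw [mul_comm]; exact h),
      map_zero]

/-- The dimension formula, with only the local ring of the base assumed universally catenary. -/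
theorem main_eq_localized {R T : Type u} [CommRing R] [IsDomain R] [CommRing T] [IsDomain T] [Algebra R T]
    [FaithfulSMul R T] [Algebra.FiniteType R T] (q : Ideal T) [q.IsPrime] (p : Ideal R) [p.IsPrime] [q.LiesOver p]
    (hR : CAlg.IsUniversallyCatenary (Localization.AtPrime p)) :
    q.height + tr (R ⧸ p) (T ⧸ q) = p.height + tr R T := by
  let M := Algebra.algebraMapSubmonoid T p.primeCompl
  let Rp := Localization.AtPrime p
  let Tp := Localization M
  have hM : M ≤ nonZeroDivisors T := by
    rintro _ ⟨r, hr, rfl⟩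
    exact mem_nonZeroDivisors_of_ne_zero fun h0 => hr (by
      rw [(map_eq_zero_iff _ (FaithfulSMul.algebraMap_injective R T)).mp h0]
      exact p.zero_mem)
  haveI : IsDomain Tp := IsLocalization.isDomain_localization hM
  haveI : IsLocalization (Submonoid.map (algebraMap R T) p.primeCompl) Tp := inferInstanceAs (IsLocalization M Tp)
  letI : Algebra Rp Tp := localizationAlgebra p.primeCompl T
  haveI : IsScalarTower R Rp Tp := IsScalarTower.of_algebraMap_eq fun r => by
    show _ = IsLocalization.map Tp (algebraMap R T) _ (algebraMap R Rp r)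
    rw [IsLocalization.map_eq]
    exact IsScalarTower.algebraMap_apply R T Tp r
  haveI : FaithfulSMul Rp Tp := (faithfulSMul_iff_algebraMap_injective Rp Tp).mpr
    (IsLocalization.map_injective_of_injective p.primeCompl Rp Tp (FaithfulSMul.algebraMap_injective R T))
  haveI : Algebra.FiniteType Rp Tp := by
    have h : (algebraMap R T).FiniteType := RingHom.finiteType_algebraMap.mpr ‹_›
    exact RingHom.finiteType_localizationPreserves (algebraMap R T) p.primeCompl Rp Tp h
  have hdisj : Disjoint (M : Set T) q := by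
    rw [Set.disjoint_left]
    rintro _ ⟨r, hr, rfl⟩ hq
    exact hr (by rw [q.over_def p]; exact hq)
  let qp := q.map (algebraMap T Tp)
  let pp := IsLocalRing.maximalIdeal Rp
  haveI : qp.IsPrime := IsLocalization.isPrime_of_isPrime_disjoint M _ q inferInstance hdisj
  have hqc : qp.comap (algebraMap T Tp) = q := IsLocalization.comap_map_of_isPrime_disjoint M _ inferInstance hdisj
  haveI : qp.LiesOver q := ⟨hqc.symm⟩
  haveI : pp.LiesOver p := ⟨Localization.AtPrime.under_maximalIdeal.symm⟩
  haveI : qp.LiesOver p := Ideal.LiesOver.trans qp q p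
  haveI : qp.LiesOver pp := ⟨by
    have h1 : (qp.comap (algebraMap Rp Tp)).comap (algebraMap R Rp) = p := by
      rw [Ideal.comap_comap, ← IsScalarTower.algebraMap_eq]
      exact (qp.over_def p).symm
    exact (Localization.AtPrime.eq_maximalIdeal_iff_under_eq.mp h1).symm⟩
  haveI : IsScalarTower (R ⧸ p) (Rp ⧸ pp) (Tp ⧸ qp) := IsScalarTower.of_algebraMap_eq fun r => by
    obtain ⟨r, rfl⟩ := Ideal.Quotient.mk_surjective r
    exact congrArg (Ideal.Quotient.mk qp) (IsScalarTower.algebraMap_apply R Rp Tp r)
  haveI : IsScalarTower (R ⧸ p) (T ⧸ q) (Tp ⧸ qp) := IsScalarTower.of_algebraMap_eq fun r => by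
    obtain ⟨r, rfl⟩ := Ideal.Quotient.mk_surjective r
    exact congrArg (Ideal.Quotient.mk qp) (IsScalarTower.algebraMap_apply R T Tp r)
  haveI := IsLocalization.isAlgebraic (R := R) Rp p.primeCompl
  haveI := IsLocalization.isAlgebraic (R := T) Tp M
  haveI := isAlgebraic_quotient_of_isLocalization p.primeCompl pp p
  haveI := isAlgebraic_quotient_of_isLocalization M qp q
  have e1 : tr R T = tr Rp Tp := by
    have h1 := tr_add (R := R) (S := Rp) (T := Tp)
    have h2 := tr_add (R := R) (S := T) (T := Tp)
    rw [tr_eq_zero, zero_add] at h1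
    rw [tr_eq_zero (R := T), add_zero] at h2
    rw [h2, h1]
  have e2 : tr (R ⧸ p) (T ⧸ q) = tr (Rp ⧸ pp) (Tp ⧸ qp) := by
    have h1 := tr_add (R := R ⧸ p) (S := Rp ⧸ pp) (T := Tp ⧸ qp)
    have h2 := tr_add (R := R ⧸ p) (S := T ⧸ q) (T := Tp ⧸ qp)
    rw [tr_eq_zero, zero_add] at h1
    rw [tr_eq_zero (R := T ⧸ q), add_zero] at h2
    rw [h2, h1]
  have e3 : qp.height = q.height := by
    rw [← IsLocalization.height_under M qp]
    exact congrArg Ideal.height hqc
  have e4 : pp.height = p.height := by
    rw [← IsLocalization.height_under p.primeCompl pp]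
    exact congrArg Ideal.height Localization.AtPrime.under_maximalIdeal
  rw [e1, e2, ← e3, ← e4]
  exact main_eq hR qp pp

end DimIneqLib
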