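import Mathlib
import Groth.Agent.DimIneqLib.Scheme

/-!
# dimension of a local ring versus the base and the fibre
-/

set_option autoImplicit false
universe u

open AlgebraicGeometry CategoryTheory TopologicalSpace Topology

noncomputable section

namespace DimIneqLib

theorem le_stalk_dim_of_chain {X : Scheme.{u}} (x : X) (n : ℕ) (z : Fin (n + 1) → X)
    (hz : ∀ i j, i < j → z i ⤳ z j ∧ z i ≠ z j) (hlast : ∀ i, z i ⤳ x) :
    (n : WithBot ℕ∞) ≤ ringKrullDim (X.presheaf.stalk x) := by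
  obtain ⟨U, hU, hxU, -⟩ := exists_isAffineOpen_mem_and_subset (X := X) (x := x) (U := ⊤) trivial
  have hzU : ∀ i, z i ∈ U := fun i => (hlast i).mem_open U.2 hxU
  rw [ringKrullDim_stalk hU x hxU, PrimeSpectrum.height_eq_orderHeight]
  refine WithBot.coe_le_coe.mpr ?_
  have key : ∀ (a b : U), a.1 ⤳ b.1 → hU.primeIdealOf a ≤ hU.primeIdealOf b := fun a b h => by
    refine (PrimeSpectrum.le_iff_specializes _ _).mpr (hU.fromSpec.isOpenEmbedding.isInducing.specializes_iff.mp ?_)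
    rwa [hU.fromSpec_primeIdealOf, hU.fromSpec_primeIdealOf]
  have hr : StrictMono fun i => hU.primeIdealOf ⟨z i, hzU i⟩ := fun i j hij => by
    refine lt_of_le_of_ne (key ⟨z i, hzU i⟩ ⟨z j, hzU j⟩ (hz i j hij).1) fun e => (hz i j hij).2 ?_
    have := congrArg (fun p => hU.fromSpec p) e
    simpa only [IsAffineOpen.fromSpec_primeIdealOf] using this
  exact Order.length_le_height (p := LTSeries.mk n _ hr) (key ⟨z _, hzU _⟩ ⟨x, hxU⟩ (hlast _))

theorem fibre_chain {X Y : Scheme.{u}} (f : X ⟶ Y) (x : X) (n : ℕ) (z : Fin (n + 1) → X)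
    (hz : ∀ i j, i < j → z i ⤳ z j ∧ z i ≠ z j) (hzx : ∀ i, z i ⤳ x) (hzf : ∀ i, f.base (z i) = f.base x) :
    (n : WithBot ℕ∞) ≤ ringKrullDim ((f.fiber (f.base x)).presheaf.stalk (f.asFiber x)) := by
  let w : Fin (n + 1) → (f.base ⁻¹' {f.base x} : Set X) := fun i => ⟨z i, hzf i⟩
  let e := (f.fiberHomeo (f.base x)).symm
  refine le_stalk_dim_of_chain (f.asFiber x) n (fun i => e (w i)) ?_ ?_
  · intro i j hij
    have h : w i ⤳ w j := (subtype_specializes_iff _ _).mpr (hz i j hij).1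
    exact ⟨h.map e.continuous, fun he => (hz i j hij).2 (Subtype.ext_iff.mp (e.injective he))⟩
  · intro i
    have h : w i ⤳ (⟨x, rfl⟩ : (f.base ⁻¹' {f.base x} : Set X)) := (subtype_specializes_iff _ _).mpr (hzx i)
    exact h.map e.continuous

theorem exists_fromSpec_chain {X Y : Scheme.{u}} (f : X ⟶ Y) {U : Y.Opens} (hU : IsAffineOpen U) {V : X.Opens}
    (hV : IsAffineOpen V) (hVU : V ≤ f ⁻¹ᵁ U) (x : X) (hxV : x ∈ V) (n : ℕ)
    (Q : Fin (n + 1) → PrimeSpectrum Γ(X, V)) (hQ : StrictMono Q)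
    (hQP : ∀ i, Q i ≤ hV.primeIdealOf ⟨x, hxV⟩)
    (hQp : ∀ i, PrimeSpectrum.comap (f.appLE U V hVU).hom (Q i) = hU.primeIdealOf ⟨f x, hVU hxV⟩) :
    ∃ z : Fin (n + 1) → X, (∀ i j, i < j → z i ⤳ z j ∧ z i ≠ z j) ∧ (∀ i, z i ⤳ x) ∧
      ∀ i, f.base (z i) = f.base x := by
  have hzx : ∀ i, hV.fromSpec (Q i) ⤳ x := fun i => by
    have h := ((PrimeSpectrum.le_iff_specializes (Q i) (hV.primeIdealOf ⟨x, hxV⟩)).mp (hQP i)).map hV.fromSpec.continuous
    rwa [show hV.fromSpec (hV.primeIdealOf ⟨x, hxV⟩) = x from hV.fromSpec_primeIdealOf ⟨x, hxV⟩] at h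
  refine ⟨fun i => hV.fromSpec (Q i), fun i j hij =>
    ⟨((PrimeSpectrum.le_iff_specializes (Q i) (Q j)).mp (hQ hij).le).map hV.fromSpec.continuous,
      fun e => (hQ hij).ne (hV.fromSpec.isOpenEmbedding.injective e)⟩, hzx, fun i => ?_⟩
  have hzV : hV.fromSpec (Q i) ∈ V := (hzx i).mem_open V.2 hxV
  have hQi : hV.primeIdealOf ⟨_, hzV⟩ = Q i :=
    hV.fromSpec.isOpenEmbedding.injective (hV.fromSpec_primeIdealOf _)
  have e := IsAffineOpen.comap_primeIdealOf_appLE U hU V hV hVU hzV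
  rw [hQi, hQp i] at e
  have := congrArg (fun w => hU.fromSpec w) e
  simp only [IsAffineOpen.fromSpec_primeIdealOf] at this
  exact this.symm

theorem ringKrullDim_stalk_le_add_fibre {X Y : Scheme.{u}} [IsLocallyNoetherian Y] (f : X ⟶ Y)
    [LocallyOfFiniteType f] (x : X) :
    ringKrullDim (X.presheaf.stalk x) ≤
      ringKrullDim (Y.presheaf.stalk (f.base x)) +
        ringKrullDim ((f.fiber (f.base x)).presheaf.stalk (f.asFiber x)) := by
  obtain ⟨U, hU, hyU, -⟩ := exists_isAffineOpen_mem_and_subset (X := Y) (x := f x) (U := ⊤) trivial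
  obtain ⟨V, hV, hxV, hVU⟩ := exists_isAffineOpen_mem_and_subset (X := X) (x := x) (U := f ⁻¹ᵁ U) hyU
  haveI : IsNoetherianRing Γ(Y, U) := IsLocallyNoetherian.component_noetherian ⟨U, hU⟩
  letI : Algebra Γ(Y, U) Γ(X, V) := (f.appLE U V hVU).hom.toAlgebra
  haveI hft : Algebra.FiniteType Γ(Y, U) Γ(X, V) := f.finiteType_appLE hU hV hVU
  haveI : IsNoetherianRing Γ(X, V) := Algebra.FiniteType.isNoetherianRing Γ(Y, U) Γ(X, V)
  let P := (hV.primeIdealOf ⟨x, hxV⟩).asIdeal
  let p := (hU.primeIdealOf ⟨f x, hVU hxV⟩).asIdeal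
  have hover : P.comap (algebraMap Γ(Y, U) Γ(X, V)) = p :=
    congrArg PrimeSpectrum.asIdeal (IsAffineOpen.comap_primeIdealOf_appLE U hU V hV hVU hxV)
  haveI : P.LiesOver p := ⟨hover.symm⟩
  have hmain := Ideal.height_le_height_add_of_liesOver p P
  rw [ringKrullDim_stalk hV x hxV, ringKrullDim_stalk hU (f.base x) hyU]
  let q := Ideal.Quotient.mk (p.map (algebraMap Γ(Y, U) Γ(X, V)))
  have hle : p.map (algebraMap Γ(Y, U) Γ(X, V)) ≤ P := Ideal.map_le_iff_le_comap.mpr hover.ge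
  haveI hPp : (P.map q).IsPrime :=
    Ideal.map_isPrime_of_surjective Ideal.Quotient.mk_surjective (by rw [Ideal.mk_ker]; exact hle)
  have hPc : (P.map q).comap q = P := by
    rw [Ideal.comap_map_of_surjective _ Ideal.Quotient.mk_surjective, ← RingHom.ker_eq_comap_bot, Ideal.mk_ker,
      sup_eq_left.mpr hle]
  have hF : ((P.map q).height : WithBot ℕ∞) ≤ ringKrullDim ((f.fiber (f.base x)).presheaf.stalk (f.asFiber x)) := by
    have hbd : ∀ n : ℕ, (n : ℕ∞) ≤ (P.map q).height →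
        (n : WithBot ℕ∞) ≤ ringKrullDim ((f.fiber (f.base x)).presheaf.stalk (f.asFiber x)) := fun n hn => by
      have hn' : (n : ℕ∞) ≤ Order.height (⟨P.map q, hPp⟩ : PrimeSpectrum (Γ(X, V) ⧸ p.map (algebraMap Γ(Y, U) Γ(X, V)))) := by
        rwa [← PrimeSpectrum.height_eq_orderHeight]
      obtain ⟨l, hl, hlen⟩ := Order.exists_series_of_le_height _ hn'
      subst hlen
      have hlP : ∀ i, (l i).asIdeal.comap q ≤ P := fun i => by
        rw [← hPc]
        have h : l i ≤ l.last := l.strictMono.monotone (Fin.le_last i)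
        rw [hl] at h
        exact Ideal.comap_mono h
      let Q : Fin (l.length + 1) → PrimeSpectrum Γ(X, V) := fun i => ⟨(l i).asIdeal.comap q, inferInstance⟩
      have hQ : StrictMono Q := fun i j hij =>
        (Ideal.orderEmbeddingOfSurjective q Ideal.Quotient.mk_surjective).strictMono (l.strictMono hij)
      have hQp : ∀ i, PrimeSpectrum.comap (f.appLE U V hVU).hom (Q i) = hU.primeIdealOf ⟨f x, hVU hxV⟩ := fun i => by
        refine PrimeSpectrum.ext (le_antisymm ?_ ?_)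
        · exact (Ideal.comap_mono (hlP i)).trans hover.le
        · intro r hr
          show q (algebraMap Γ(Y, U) Γ(X, V) r) ∈ (l i).asIdeal
          rw [Ideal.Quotient.eq_zero_iff_mem.mpr (Ideal.mem_map_of_mem _ hr)]
          exact zero_mem _
      obtain ⟨z, hz1, hz2, hz3⟩ := exists_fromSpec_chain f hU hV hVU x hxV l.length Q hQ (fun i => hlP i) hQp
      exact fibre_chain f x l.length z hz1 hz2 hz3
    rcases eq_or_ne (P.map q).height ⊤ with htop | htop
    · exact absurd htop (Ideal.height_ne_top hPp.ne_top)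
    · obtain ⟨n, hn⟩ := ENat.ne_top_iff_exists.1 htop
      rw [← hn]
      exact hbd n hn.le
  calc (P.height : WithBot ℕ∞) ≤ ((p.height + (P.map q).height : ℕ∞) : WithBot ℕ∞) := WithBot.coe_le_coe.mpr hmain
    _ ≤ _ := by
      rw [WithBot.coe_add]
      exact add_le_add le_rfl hF

end DimIneqLib
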