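import Groth.Agent.DimIneqLib.Equality
import Groth.Agent.CatLib.Eft

/-!
# The dimension formula under a catenarity hypothesis along one prime of the base
-/

set_option autoImplicit false
set_option linter.style.haveILetI false
set_option maxHeartbeats 1000000
set_option synthInstance.maxHeartbeats 200000
universe u

open Polynomial

noncomputable section

namespace DimIneqLib

/-- Heights add up along a surjection when the source is catenary at the prime in question. -/
theorem height_eq_add_of_catenary_atPrime {R T : Type u} [CommRing R] [IsNoetherianRing R] [IsDomain R]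
    [CommRing T] [IsDomain T] (φ : R →+* T) (hφ : Function.Surjective φ) (q : Ideal T) [q.IsPrime]
    (h : CAlg.IsCatenary (Localization.AtPrime (q.comap φ))) :
    (q.comap φ).height = (RingHom.ker φ).height + q.height := by
  obtain ⟨hψ, hker⟩ := CatLib.localRingHom_surjective φ hφ q
  let RQ := Localization.AtPrime (q.comap φ)
  let ψ := Localization.localRingHom (q.comap φ) q φ rfl
  haveI : IsNoetherianRing RQ := IsLocalization.isNoetherianRing (q.comap φ).primeCompl _ inferInstance
  have h1 := height_eq_add_of_catenary (R := RQ) (T := Localization.AtPrime q) h ψ hψ (IsLocalRing.maximalIdeal _)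
  haveI : (RingHom.ker φ).IsPrime := RingHom.ker_isPrime φ
  have hdisj : Disjoint ((q.comap φ).primeCompl : Set R) (RingHom.ker φ) := by
    rw [Set.disjoint_left]
    intro a ha hk
    exact ha (show φ a ∈ q by rw [RingHom.mem_ker.1 hk]; exact q.zero_mem)
  have hk : (RingHom.ker ψ).height = (RingHom.ker φ).height := by
    haveI : ((RingHom.ker φ).map (algebraMap R RQ)).IsPrime :=
      IsLocalization.isPrime_of_isPrime_disjoint (q.comap φ).primeCompl _ _ inferInstance hdisj
    rw [hker, ← IsLocalization.height_under (q.comap φ).primeCompl,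
      IsLocalization.comap_map_of_isPrime_disjoint (q.comap φ).primeCompl _ inferInstance hdisj]
  have hm : (IsLocalRing.maximalIdeal (Localization.AtPrime q)).comap ψ = IsLocalRing.maximalIdeal RQ :=
    ((IsLocalRing.local_hom_TFAE ψ).out 0 4).1 (Localization.isLocalHom_localRingHom (q.comap φ) q φ rfl)
  have e1 : (IsLocalRing.maximalIdeal RQ).height = (q.comap φ).height := by
    rw [← IsLocalization.height_under (q.comap φ).primeCompl (IsLocalRing.maximalIdeal RQ),
      IsLocalization.AtPrime.under_maximalIdeal RQ (q.comap φ)]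
  have e2 : (IsLocalRing.maximalIdeal (Localization.AtPrime q)).height = q.height := by
    rw [← IsLocalization.height_under q.primeCompl (IsLocalRing.maximalIdeal (Localization.AtPrime q)),
      IsLocalization.AtPrime.under_maximalIdeal (Localization.AtPrime q) q]
  rw [hm, hk, e1, e2] at h1
  exact h1

theorem isCatenary_atPrime_of_le {A : Type u} [CommRing A] (Q m : Ideal A) [Q.IsPrime] [m.IsPrime] (hle : Q ≤ m)
    (h : CAlg.IsCatenary (Localization.AtPrime m)) : CAlg.IsCatenary (Localization.AtPrime Q) := by
  have hdisj : Disjoint (m.primeCompl : Set A) Q := Set.disjoint_left.2 fun a ha haQ => ha (hle haQ)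
  let Q' := Q.map (algebraMap A (Localization.AtPrime m))
  haveI : Q'.IsPrime := IsLocalization.isPrime_of_isPrime_disjoint m.primeCompl _ Q inferInstance hdisj
  have hQ' : Q'.comap (algebraMap A (Localization.AtPrime m)) = Q :=
    IsLocalization.comap_map_of_isPrime_disjoint m.primeCompl _ inferInstance hdisj
  haveI : IsLocalization.AtPrime (Localization.AtPrime Q') Q := by
    have h1 : IsLocalization.AtPrime (Localization.AtPrime Q') (Q'.comap (algebraMap A (Localization.AtPrime m))) :=
      IsLocalization.isLocalization_isLocalization_atPrime_isLocalization m.primeCompl _ Q'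
    simpa only [hQ'] using h1
  exact CatLib.isCatenary_of_ringEquiv (R := Localization.AtPrime Q') (IsLocalization.algEquiv Q.primeCompl (Localization.AtPrime Q')
    (Localization.AtPrime Q)).toRingEquiv (CatLib.isCatenary_localization Q'.primeCompl _ h)

/-- Every finitely generated subalgebra of `T[X]` is catenary at the primes over `p`. -/
def CatenaryOver {R : Type u} [CommRing R] (p : Ideal R) (T : Type u) [CommRing T] [Algebra R T] : Prop :=
  ∀ (A' : Subalgebra R T[X]), A'.FG → ∀ (Q : Ideal A') [Q.IsPrime], Q.LiesOver p →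
    CAlg.IsCatenary (Localization.AtPrime Q)

theorem isCatenary_atPrime_of_surjective {A B : Type u} [CommRing A] [CommRing B] (f : A →+* B)
    (hf : Function.Surjective f) (Q : Ideal B) [Q.IsPrime]
    (h : CAlg.IsCatenary (Localization.AtPrime (Q.comap f))) : CAlg.IsCatenary (Localization.AtPrime Q) :=
  CatLib.isCatenary_of_surjective _ (CatLib.localRingHom_surjective f hf Q).1 h

theorem CatenaryOver.subalgebra {R : Type u} [CommRing R] {p : Ideal R} {T : Type u} [CommRing T] [Algebra R T]
    (h : CatenaryOver p T) (R' : Subalgebra R T) : CatenaryOver p R' := by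
  intro A' hA Q _ hQ
  let j : R'[X] →ₐ[R] T[X] := Polynomial.mapAlgHom R'.val
  have hj : Function.Injective j := Polynomial.map_injective _ Subtype.val_injective
  let e : A' ≃ₐ[R] A'.map j := A'.equivMapOfInjective j hj
  refine isCatenary_atPrime_of_surjective e.symm.toRingEquiv.toRingHom e.symm.surjective Q ?_
  refine h _ (hA.map j) _ ⟨?_⟩
  rw [hQ.over, Ideal.under, Ideal.under, Ideal.comap_comap]
  exact congrArg (fun g => Q.comap g) (RingHom.ext fun r => (e.symm.commutes r).symm)

theorem CatenaryOver.polynomial {R : Type u} [CommRing R] {p : Ideal R} {T : Type u} [CommRing T] [Algebra R T]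
    (h : CatenaryOver p T) (R' : Subalgebra R T) (hR' : R'.FG) (Q : Ideal R'[X]) [Q.IsPrime]
    (hQ : p = Q.comap (algebraMap R R'[X])) : CAlg.IsCatenary (Localization.AtPrime Q) := by
  let j : R'[X] →ₐ[R] T[X] := Polynomial.mapAlgHom R'.val
  have hj : Function.Injective j := Polynomial.map_injective _ Subtype.val_injective
  haveI : Algebra.FiniteType R R' := (Subalgebra.fg_iff_finiteType R').1 hR'
  let e : R'[X] ≃ₐ[R] j.range := AlgEquiv.ofInjective j hj
  refine isCatenary_atPrime_of_surjective e.symm.toRingEquiv.toRingHom e.symm.surjective Q ?_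
  refine h _ ?_ _ ⟨?_⟩
  · rw [Subalgebra.fg_iff_finiteType]
    exact Algebra.FiniteType.of_surjective e.toAlgHom e.surjective
  rw [hQ, Ideal.under, Ideal.comap_comap]
  exact congrArg (fun g => Q.comap g) (RingHom.ext fun r => (e.symm.commutes r).symm)

theorem simple_eq_at {R T : Type u} [CommRing R] [IsDomain R] [IsNoetherianRing R]
    [CommRing T] [IsDomain T] [Algebra R T] [FaithfulSMul R T] (x : T) (hx : Algebra.adjoin R {x} = ⊤)
    (q : Ideal T) [q.IsPrime] (p : Ideal R) [p.IsPrime] [q.LiesOver p]
    (hloc : ∀ (Q : Ideal R[X]) [Q.IsPrime], Q = q.comap (Polynomial.aeval (R := R) x).toRingHom →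
      CAlg.IsCatenary (Localization.AtPrime Q)) :
    q.height + tr (R ⧸ p) (T ⧸ q) = p.height + tr R T := by
  have hs : Function.Surjective (Polynomial.aeval (R := R) x) := by
    rw [← AlgHom.range_eq_top, ← Algebra.adjoin_singleton_eq_range_aeval, hx]
  let φ : R[X] →+* T := (Polynomial.aeval (R := R) x).toRingHom
  have hadd := height_eq_add_of_catenary_atPrime φ hs q (hloc _ rfl)
  have hA := simple_aux x hx q p
  haveI : (⊥ : Ideal T).IsPrime := Ideal.isPrime_bot
  haveI : (⊥ : Ideal T).LiesOver (⊥ : Ideal R) := ⟨by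
    rw [Ideal.under, ← RingHom.ker_eq_comap_bot]
    exact ((RingHom.injective_iff_ker_eq_bot _).mp (FaithfulSMul.algebraMap_injective R T)).symm⟩
  have hB : (RingHom.ker φ).height + tr R T = 1 := by
    by_cases hP : RingHom.ker φ = ⊥
    · have hinj : Function.Injective φ := (RingHom.injective_iff_ker_eq_bot φ).mpr hP
      rw [hP, Ideal.height_bot, zero_add]
      refine le_antisymm ?_ ?_
      · rw [tr, Cardinal.toENat_le_one]
        have : Algebra.IsAlgebraic (Algebra.adjoin R ({x} : Set T)) T :=
          ⟨fun t => isAlgebraic_algebraMap (⟨t, hx.ge trivial⟩ : Algebra.adjoin R _)⟩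
        simpa using Algebra.IsAlgebraic.trdeg_le_cardinalMk (R := R) (A := T) ({x} : Set T)
      · have hai : Transcendental R x := transcendental_iff_injective.mpr hinj
        rw [tr, show (1 : ℕ∞) = Cardinal.toENat 1 from (map_one _).symm]
        refine OrderHomClass.mono _ ?_
        simpa using ((algebraicIndependent_unique_type_iff (x := fun _ : PUnit.{u + 1} => x)).mpr hai).cardinalMk_le_trdeg
    · obtain ⟨f, hf, hf0⟩ := Submodule.exists_mem_ne_zero_of_ne_bot hP
      haveI : Algebra.IsAlgebraic R T := ⟨fun t => by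
        have h := (Algebra.isAlgebraic_adjoin_singleton_iff (R := R) (s := x)).mpr ⟨f, hf0, hf⟩
        rw [hx] at h
        exact h t trivial⟩
      rw [tr_eq_zero, add_zero]
      have hkp : (RingHom.ker φ).IsPrime := RingHom.ker_isPrime φ
      haveI : (RingHom.ker φ).LiesOver (⊥ : Ideal R) := ⟨by
        rw [Ideal.under, RingHom.comap_ker]
        symm
        rw [← RingHom.injective_iff_ker_eq_bot]
        intro a b hab
        exact FaithfulSMul.algebraMap_injective R T (by simpa [φ] using hab)⟩
      refine le_antisymm (by simpa using (height_le_of_lies_over (⊥ : Ideal R) (RingHom.ker φ)).1) ?_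
      refine ENat.one_le_iff_ne_zero.mpr fun h0 => hP ?_
      have hmin := Ideal.height_eq_zero_iff.mp h0
      rwa [IsDomain.minimalPrimes_eq_singleton_bot, Set.mem_singleton_iff] at hmin
  rw [hadd] at hA
  obtain ⟨k, hk⟩ := ENat.ne_top_iff_exists.mp (Ideal.height_ne_top (I := RingHom.ker φ) (RingHom.ker_ne_top φ))
  rw [← hB, ← hk] at hA
  refine ENat.add_left_injective_of_ne_top (ENat.coe_ne_top k) ?_
  show q.height + tr (R ⧸ p) (T ⧸ q) + k = p.height + tr R T + k
  rw [add_comm (q.height + _), ← add_assoc, add_assoc p.height, add_comm (tr R T)]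
  exact hA

theorem main_eq_at_aux {R : Type u} [CommRing R] [IsDomain R] [IsNoetherianRing R]
    (p : Ideal R) [p.IsPrime] (n : ℕ) :
    ∀ (T : Type u) [CommRing T] [IsDomain T] [Algebra R T] [FaithfulSMul R T] (f : Fin n → T),
      Algebra.adjoin R (Set.range f) = ⊤ → CatenaryOver p T → ∀ (q : Ideal T) [q.IsPrime] [q.LiesOver p],
        q.height + tr (R ⧸ p) (T ⧸ q) = p.height + tr R T := by
  induction n with
  | zero =>
    intro T _ _ _ _ f hf _ q _ _
    have hsurj : Function.Surjective (algebraMap R T) := fun t => by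
      rw [Set.range_eq_empty f, Algebra.adjoin_empty] at hf
      exact Algebra.mem_bot.mp (hf.ge trivial)
    let e : R ≃+* T := RingEquiv.ofBijective _ ⟨FaithfulSMul.algebraMap_injective R T, hsurj⟩
    haveI : Algebra.IsAlgebraic (R ⧸ p) (T ⧸ q) := ⟨fun t => by
      obtain ⟨t, rfl⟩ := Ideal.Quotient.mk_surjective t
      obtain ⟨r, rfl⟩ := hsurj t
      exact isAlgebraic_algebraMap (Ideal.Quotient.mk p r)⟩
    haveI : Algebra.IsAlgebraic R T := ⟨fun t => by
      obtain ⟨r, rfl⟩ := hsurj t
      exact isAlgebraic_algebraMap r⟩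
    rw [tr_eq_zero, tr_eq_zero, show p = q.comap e from q.over_def p, e.height_comap]
  | succ n ih =>
    intro T _ _ _ _ f hf hT q _ _
    let R' := Algebra.adjoin R (Set.range fun i : Fin n => f i.castSucc)
    haveI hR'ft : Algebra.FiniteType R R' := Algebra.FiniteType.adjoin_of_finite (Set.finite_range _)
    haveI : IsNoetherianRing R' := Algebra.FiniteType.isNoetherianRing R R'
    let p' : Ideal R' := q.comap (algebraMap R' T)
    haveI : q.LiesOver p' := ⟨rfl⟩
    haveI : p'.LiesOver p := ⟨by
      rw [q.over_def p]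
      show _ = (q.comap (algebraMap R' T)).comap (algebraMap R R')
      rw [Ideal.comap_comap]
      rfl⟩
    haveI : FaithfulSMul R R' := (faithfulSMul_iff_algebraMap_injective R R').mpr fun u v h =>
      FaithfulSMul.algebraMap_injective R T (congrArg (fun w : R' => (w : T)) h)
    haveI : FaithfulSMul R' T := (faithfulSMul_iff_algebraMap_injective R' T).mpr Subtype.val_injective
    have hfun : Algebra.adjoin R (Set.range fun i : Fin n => (⟨f i.castSucc, Algebra.subset_adjoin ⟨i, rfl⟩⟩ : R')) = ⊤ := by
      refine Subalgebra.map_injective (f := R'.val) Subtype.val_injective ?_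
      rw [AlgHom.map_adjoin, ← Set.range_comp, Algebra.map_top, Subalgebra.range_val]
      rfl
    have h1 := ih R' _ hfun (hT.subalgebra R') p'
    have hx : Algebra.adjoin R' ({f (Fin.last n)} : Set T) = ⊤ := by
      refine top_le_iff.mp fun t _ => ?_
      have ht : t ∈ Algebra.adjoin R (Set.range f) := hf.ge trivial
      have hle : Algebra.adjoin R (Set.range f) ≤ (Algebra.adjoin R' ({f (Fin.last n)} : Set T)).restrictScalars R := by
        refine Algebra.adjoin_le ?_
        rintro _ ⟨i, rfl⟩
        induction i using Fin.lastCases with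
        | last => exact Algebra.subset_adjoin rfl
        | cast i => exact Subalgebra.algebraMap_mem _ (⟨f i.castSucc, Algebra.subset_adjoin ⟨i, rfl⟩⟩ : R')
      exact hle ht
    have h2 := simple_eq_at (f (Fin.last n)) hx q p' fun Q _ hQ => by
      refine hT.polynomial R' ((Subalgebra.fg_iff_finiteType R').2 hR'ft) Q ?_
      rw [q.over_def p, hQ, Ideal.comap_comap]
      refine congrArg (fun g => q.comap g) (RingHom.ext fun r => ?_)
      show algebraMap R T r = Polynomial.aeval (f (Fin.last n)) (algebraMap R R'[X] r)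
      rw [IsScalarTower.algebraMap_apply R R' R'[X], Polynomial.algebraMap_eq, Polynomial.aeval_C,
        ← IsScalarTower.algebraMap_apply]
    haveI : IsScalarTower (R ⧸ p) (R' ⧸ p') (T ⧸ q) := IsScalarTower.of_algebraMap_eq fun r => by
      obtain ⟨r, rfl⟩ := Ideal.Quotient.mk_surjective r
      exact congrArg (Ideal.Quotient.mk q) (IsScalarTower.algebraMap_apply R R' T r)
    rw [← tr_add (R := R ⧸ p) (S := R' ⧸ p') (T := T ⧸ q), ← tr_add (R := R) (S := R') (T := T)]
    calc q.height + (tr (R ⧸ p) (R' ⧸ p') + tr (R' ⧸ p') (T ⧸ q))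
        = (q.height + tr (R' ⧸ p') (T ⧸ q)) + tr (R ⧸ p) (R' ⧸ p') := by ring
      _ = (p'.height + tr R' T) + tr (R ⧸ p) (R' ⧸ p') := by rw [h2]
      _ = (p'.height + tr (R ⧸ p) (R' ⧸ p')) + tr R' T := by ring
      _ = (p.height + tr R R') + tr R' T := by rw [h1]
      _ = p.height + (tr R R' + tr R' T) := by ring

/-- The dimension formula along `p`. -/
theorem main_eq_at {R T : Type u} [CommRing R] [IsDomain R] [IsNoetherianRing R] [CommRing T] [IsDomain T]
    [Algebra R T] [FaithfulSMul R T] [Algebra.FiniteType R T] (q : Ideal T) [q.IsPrime]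
    (p : Ideal R) [p.IsPrime] [q.LiesOver p] (hT : CatenaryOver p T) :
    q.height + tr (R ⧸ p) (T ⧸ q) = p.height + tr R T := by
  obtain ⟨n, φ, hφ⟩ := Algebra.FiniteType.iff_quotient_mvPolynomial''.mp (inferInstance : Algebra.FiniteType R T)
  refine main_eq_at_aux p n T (fun i => φ (MvPolynomial.X i)) ?_ hT q
  rw [show (fun i => φ (MvPolynomial.X i)) = φ ∘ MvPolynomial.X from rfl, Set.range_comp, ← AlgHom.map_adjoin,
    MvPolynomial.adjoin_range_X, Algebra.map_top, AlgHom.range_eq_top]
  exact hφ

/-- It is enough to test the maximal ideals over a maximal ideal. -/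
theorem catenaryOver_of_maximal {R : Type u} [CommRing R] (p : Ideal R) [p.IsMaximal] (T : Type u) [CommRing T]
    [Algebra R T] (h : ∀ A' : Subalgebra R T[X], A'.FG → ∀ (m : Ideal A') [m.IsMaximal], m.LiesOver p →
      CAlg.IsCatenary (Localization.AtPrime m)) : CatenaryOver p T := by
  intro A' hA Q _ hQ
  obtain ⟨m, hm, hle⟩ := Ideal.exists_le_maximal Q (Ideal.IsPrime.ne_top inferInstance)
  haveI := hm
  have hmp : m.LiesOver p :=
    ⟨Ideal.IsMaximal.eq_of_le inferInstance (Ideal.IsPrime.ne_top inferInstance)
      (hQ.over.le.trans (Ideal.comap_mono hle))⟩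
  exact isCatenary_atPrime_of_le Q m hle (h A' hA m hmp)

end DimIneqLib
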